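import Cfsg.Prelude.Def_Classical

/-!
Isometric spaces on different coordinates have isomorphic projective groups.
-/

set_option autoImplicit false

namespace CfsgLib.FischerTypes

open Matrix Cfsg

variable {F : Type*} [Field F] {ι κ : Type} [Fintype ι] [DecidableEq ι] [Fintype κ] [DecidableEq κ]
variable {q : (ι → F) → F} {r : (κ → F) → F}

/-- conjugation of matrices by an isometry -/
def glConj (M : Matrix κ ι F) (N : Matrix ι κ F) (hMN : M * N = 1) (hNM : N * M = 1) : GL ι F ≃* GL κ F :=
  Units.mapEquiv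
    { toFun := fun g => M * g * N
      invFun := fun g => N * g * M
      left_inv := fun g => by
        simp only [← Matrix.mul_assoc, hNM, Matrix.one_mul]
        rw [Matrix.mul_assoc, hNM, Matrix.mul_one]
      right_inv := fun g => by
        simp only [← Matrix.mul_assoc, hMN, Matrix.one_mul]
        rw [Matrix.mul_assoc, hMN, Matrix.mul_one]
      map_mul' := fun g h => by
        simp only [← Matrix.mul_assoc]
        rw [Matrix.mul_assoc (M * g) N M, hNM, Matrix.mul_one] }

theorem glConj_val (M : Matrix κ ι F) (N : Matrix ι κ F) (hMN : M * N = 1) (hNM : N * M = 1) (g : GL ι F) :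
    ((glConj M N hMN hNM g : GL κ F) : Matrix κ κ F) = M * (g : Matrix ι ι F) * N := rfl

theorem glConj_mem (M : Matrix κ ι F) (N : Matrix ι κ F) (hMN : M * N = 1) (hNM : N * M = 1)
    (h : ∀ v, r (M *ᵥ v) = q v) (g : GL ι F) :
    glConj M N hMN hNM g ∈ isometryGroup F r ↔ g ∈ isometryGroup F q := by
  constructor
  · intro hg v _
    show q ((g : Matrix ι ι F) *ᵥ v) = q v
    have h1 : r (((glConj M N hMN hNM g : GL κ F) : Matrix κ κ F) *ᵥ (M *ᵥ v)) = r (M *ᵥ v) :=
      hg (M *ᵥ v) (M *ᵥ v)
    rw [glConj_val, Matrix.mulVec_mulVec, Matrix.mul_assoc (M * _) N M, hNM, Matrix.mul_one,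
      ← Matrix.mulVec_mulVec, h, h] at h1
    exact h1
  · intro hg w _
    show r (((glConj M N hMN hNM g : GL κ F) : Matrix κ κ F) *ᵥ w) = r w
    have hw : w = M *ᵥ (N *ᵥ w) := by rw [Matrix.mulVec_mulVec, hMN, Matrix.one_mulVec]
    rw [glConj_val, ← Matrix.mulVec_mulVec, ← Matrix.mulVec_mulVec, h,
      show q ((g : Matrix ι ι F) *ᵥ (N *ᵥ w)) = q (N *ᵥ w) from hg (N *ᵥ w) (N *ᵥ w), ← h, ← hw]

/-- the projective groups of isometric spaces -/
theorem pomega_congr (M : Matrix κ ι F) (N : Matrix ι κ F) (hMN : M * N = 1) (hNM : N * M = 1)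
    (h : ∀ v, r (M *ᵥ v) = q v) : Nonempty (POmega F q ≃* POmega F r) := by
  let E : isometryGroup F q ≃* isometryGroup F r :=
    { toFun := fun g => ⟨glConj M N hMN hNM g, (glConj_mem M N hMN hNM h g).2 g.2⟩
      invFun := fun g => ⟨(glConj M N hMN hNM).symm g,
        (glConj_mem M N hMN hNM h _).1 (by rw [MulEquiv.apply_symm_apply]; exact g.2)⟩
      left_inv := fun g => Subtype.ext ((glConj M N hMN hNM).symm_apply_apply g.1)
      right_inv := fun g => Subtype.ext ((glConj M N hMN hNM).apply_symm_apply g.1)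
      map_mul' := fun x y => Subtype.ext (map_mul (glConj M N hMN hNM) x.1 y.1) }
  have hE : (Omega F q).map E.toMonoidHom = Omega F r := by
    show (commutator (isometryGroup F q)).map E.toMonoidHom = commutator (isometryGroup F r)
    rw [commutator_def, Subgroup.map_commutator, Subgroup.map_top_of_surjective _ E.surjective, ← commutator_def]
  let E' : Omega F q ≃* Omega F r := (E.subgroupMap _).trans (MulEquiv.subgroupCongr hE)
  refine ⟨QuotientGroup.congr _ _ E' ?_⟩
  refine le_antisymm ?_ fun z hz => ⟨E'.symm z, ?_, E'.apply_symm_apply z⟩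
  · rintro _ ⟨z, hz, rfl⟩
    exact Subgroup.mem_center_iff.2 fun y => by
      obtain ⟨y, rfl⟩ := E'.surjective y
      exact (map_mul E' y z).symm.trans ((congrArg E' (Subgroup.mem_center_iff.1 hz y)).trans (map_mul E' z y))
  · exact Subgroup.mem_center_iff.2 fun y => E'.injective (by
      rw [map_mul, map_mul, E'.apply_symm_apply]
      exact Subgroup.mem_center_iff.1 hz _)

end CfsgLib.FischerTypes
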