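import Cfsg.Agent.Lib.FischerTypes.DataEight

/-!
Checks of the tables in dimension eight.
-/

set_option autoImplicit false
set_option maxRecDepth 100000

namespace CfsgLib.FischerTypes

open CfsgLib.CosetEnum

theorem eight_sel : tblEight.selOK = true := by decide +kernel

theorem eight_pt : allUp tblEight.ptOK 11 0 = true := by decide +kernel

theorem eight_move : ∀ a < 9, allUp (tblEight.moveOK a) 11 0 = true := by decide +kernel

theorem eight_cover : allUp tblEight.coverOK 13 0 = true := by decide +kernel

end CfsgLib.FischerTypes
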