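import Cfsg.Agent.Lib.FischerTypes.GroupDefs
import Cfsg.Agent.Lib.FischerTypes.DataEight

/-!
The transpositions over the tables in dimension eight.
-/

set_option autoImplicit false
set_option maxRecDepth 100000

namespace CfsgLib.FischerTypes

open CfsgLib.CosetEnum

/-- the matching points -/
def ptsOfEight : Pts tblEight := ⟨ptsEight, srtEight, rnkEight, [1, 2, 3, 4, 5, 6, 7, 8, 9]⟩

theorem eight_letters : ptsOfEight.letOK = true := by decide +kernel

theorem eight_points : allUp ptsOfEight.oneOK 11 0 = true := by decide +kernel

end CfsgLib.FischerTypes
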