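import Cfsg.Prelude.Def_FischerSpaces
import Cfsg.Agent.Lib.ThreeTransp.Relations

/-!
The types M(22) and M(23) pass along isomorphisms.
-/

set_option autoImplicit false

namespace CfsgLib.FischerTypes

open Cfsg CfsgLib.ThreeTransp.Relations

variable {G H : Type*} [Group G] [Group H] (e : G ≃* H) (D : Set G)

theorem image_nbr_equiv (d : G) : e '' nbr D d = nbr (e '' D) (e d) := by
  ext y
  obtain ⟨x, rfl⟩ := e.surjective y
  simp only [e.injective.mem_set_image, Set.mem_ofPred_eq, ne_eq, e.injective.eq_iff]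
  exact and_congr_right fun _ => and_congr_right fun _ =>
    ⟨fun h => h.map e, fun h => by simpa using h.map e.symm⟩

theorem image_nbr_inter (d c : G) :
    e '' (nbr D d ∩ nbr D c) = nbr (e '' D) (e d) ∩ nbr (e '' D) (e c) := by
  rw [Set.image_inter e.injective, image_nbr_equiv, image_nbr_equiv]

/-- the isomorphism of the generated groups -/
noncomputable def closureEquiv {S : Set G} {T : Set H} (h : e '' S = T) :
    ↥(Subgroup.closure S) ≃* ↥(Subgroup.closure T) :=
  (e.subgroupMap _).trans (MulEquiv.subgroupCongr (by rw [MonoidHom.map_closure, ← h]; rfl))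

theorem closureEquiv_apply {S : Set G} {T : Set H} (h : e '' S = T) (x : ↥(Subgroup.closure S)) :
    (closureEquiv e h x : H) = e x := rfl

/-- the isomorphism of the generated groups modulo centres -/
noncomputable def centreQuotEquiv {A B : Type*} [Group A] [Group B] (f : A ≃* B) :
    A ⧸ Subgroup.center A ≃* B ⧸ Subgroup.center B :=
  QuotientGroup.congr _ _ f (by
    ext y
    simp only [Subgroup.mem_map, MonoidHom.coe_coe, Subgroup.mem_center_iff]
    constructor
    · rintro ⟨x, hx, rfl⟩ z
      obtain ⟨w, rfl⟩ := f.surjective z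
      rw [← map_mul, ← map_mul, hx w]
    · intro h
      refine ⟨f.symm y, fun w => f.injective ?_, f.apply_symm_apply y⟩
      rw [map_mul, map_mul, f.apply_symm_apply]
      exact h (f w))

theorem centreQuotEquiv_mk {A B : Type*} [Group A] [Group B] (f : A ≃* B) (x : A) :
    centreQuotEquiv f (x : A ⧸ Subgroup.center A) = (f x : B ⧸ Subgroup.center B) := rfl

include e in
theorem center_bot_map (h : Subgroup.center G = ⊥) : Subgroup.center H = ⊥ := by
  refine (Subgroup.eq_bot_iff_forall _).mpr fun y hy => ?_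
  have hx : e.symm y ∈ Subgroup.center G := Subgroup.mem_center_iff.mpr fun w => e.injective (by
    rw [map_mul, map_mul, e.apply_symm_apply]; exact Subgroup.mem_center_iff.mp hy _)
  rw [h, Subgroup.mem_bot] at hx
  rw [← e.apply_symm_apply y, hx, map_one]

theorem exists_perpQuot_equiv (d : G) : ∃ f : PerpQuot D d ≃* PerpQuot (e '' D) (e d),
    f '' perpImage D d = perpImage (e '' D) (e d) := by
  refine ⟨centreQuotEquiv (closureEquiv e (image_nbr_equiv e D d)), ?_⟩
  rw [perpImage, perpImage, ← Set.image_comp]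
  ext y
  constructor
  · rintro ⟨x, hx, rfl⟩
    refine ⟨closureEquiv e (image_nbr_equiv e D d) x, ?_, rfl⟩
    rw [Set.mem_ofPred_eq, closureEquiv_apply, ← image_nbr_equiv]
    exact Set.mem_image_of_mem _ hx
  · rintro ⟨x, hx, rfl⟩
    obtain ⟨w, rfl⟩ := (closureEquiv e (image_nbr_equiv e D d)).surjective x
    refine ⟨w, ?_, rfl⟩
    rw [Set.mem_ofPred_eq, closureEquiv_apply, ← image_nbr_equiv, e.injective.mem_set_image] at hx
    exact hx

theorem proj_transport {n : ℕ} {μ c : ZMod 3} {A B : Type*} [Group A] [Group B] (f : A ≃* B)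
    (h : IsProjReflectionGroupModThree A n μ c) : IsProjReflectionGroupModThree B n μ c := by
  obtain ⟨Q, h1, h2, ⟨g⟩⟩ := h
  exact ⟨Q, h1, h2, ⟨f.symm.trans g⟩⟩

theorem typeM22_map (h : IsOfTypeM22 G D) : IsOfTypeM22 H (e '' D) := by
  obtain ⟨hZ, d, hd, c, hc, hdc, ⟨F, iF, iFt, hF, ⟨g⟩⟩, c₃, hc₃, hL⟩ := h
  refine ⟨center_bot_map e hZ, e d, Set.mem_image_of_mem _ hd, e c, Set.mem_image_of_mem _ hc,
    fun h => hdc (by simpa using h.map e.symm),
    ⟨F, iF, iFt, hF, ⟨(centreQuotEquiv (closureEquiv e (image_nbr_equiv e D d))).symm.trans g⟩⟩,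
    c₃, hc₃, proj_transport (centreQuotEquiv (closureEquiv e (image_nbr_inter e D d c))) hL⟩

theorem typeM23_map (h : IsOfTypeM23 G D) : IsOfTypeM23 H (e '' D) := by
  obtain ⟨hZ, d, hd, c, hc, hdc, h22, c₃, hc₃, hL⟩ := h
  obtain ⟨f, hf⟩ := exists_perpQuot_equiv e D d
  refine ⟨center_bot_map e hZ, e d, Set.mem_image_of_mem _ hd, e c, Set.mem_image_of_mem _ hc,
    fun h => hdc (by simpa using h.map e.symm), ?_,
    c₃, hc₃, proj_transport (centreQuotEquiv (closureEquiv e (image_nbr_inter e D d c))) hL⟩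
  have h' := typeM22_map f (perpImage D d) h22
  rw [hf] at h'
  exact h'

end CfsgLib.FischerTypes
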