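import Cfsg.Agent.Lib.FischerTypes.PtsFamily
import Cfsg.Agent.Lib.FischerTypes.ChkEight
import Cfsg.Agent.Lib.FischerTypes.ChkPtsEight
import Cfsg.Agent.Lib.FischerTypes.OmegaCongr
import Cfsg.Agent.Lib.FischerTypes.Transport
import Cfsg.Agent.Lib.Fischer.OrthThreeStructure
import Cfsg.Agent.Lib.Fi24Act.Sym
import Cfsg.Agent.Lib.M24.ThreeABase

/-!
The elements of Fi23 keeping the three classes form `PΩ⁺(8, 3)`, and the stabiliser of the three classes
in the cover has quotient the symmetric group of degree three.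
-/

set_option autoImplicit false
set_option linter.style.haveILetI false

namespace CfsgLib.FischerTypes

open Cfsg Cfsg.Spor CfsgLib.CosetEnum CfsgLib.Fi24Pres CfsgLib.Fi24Act
open CfsgLib.M24 (tp)
open CfsgLib.Fi23Pres (transClass)

theorem validEight : tblEight.Valid where
  sel := eight_sel
  pt := eight_pt
  move := eight_move
  cover := eight_cover
  small := ⟨by decide, by decide⟩

theorem validPtsEight : ptsOfEight.Valid where
  tbl := validEight
  lets := eight_letters
  one := eight_points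

/-! ### The classes as a homomorphism -/

/-- the permutation of the classes -/
noncomputable def sigmaOne : subS1 →* Equiv.Perm (Fin 3) where
  toFun x := Classical.choose x.2
  map_one' := (Classical.choose_spec (1 : subS1).2).1.unique Permutes.one
  map_mul' x y := (Classical.choose_spec (x * y).2).1.unique
    ((Classical.choose_spec x.2).1.mul (Classical.choose_spec y.2).1)

theorem sigmaOne_spec (x : subS1) :
    Permutes (x : K).1 (sigmaOne x) ∧ signZ (x : K).2 = Equiv.Perm.sign (sigmaOne x) :=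
  Classical.choose_spec x.2

theorem sigmaOne_eq {x : subS1} {σ : Equiv.Perm (Fin 3)} (h : Permutes (x : K).1 σ) : sigmaOne x = σ :=
  (sigmaOne_spec x).1.unique h

theorem ker_sigmaOne_iff (x : subS1) : x ∈ sigmaOne.ker ↔ (x : K).1 ∈ fixTo 0 ∧ (x : K).2 = 1 := by
  rw [MonoidHom.mem_ker]
  constructor
  · intro e
    obtain ⟨h1, h2⟩ := sigmaOne_spec x
    rw [e] at h1 h2
    exact ⟨h1, signZ_inj (h2.trans (by simp))⟩
  · exact fun h => sigmaOne_eq (show Permutes (x : K).1 1 from h.1)

theorem fixTo_mem {y : Fi23} (hy : y ∈ fixTo 0) : ((y, 1) : K) ∈ subS1 :=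
  ⟨1, hy, by simp⟩

/-- the kernel is the subgroup of Fi23 keeping the classes -/
noncomputable def kerEquiv : ↥(fixTo 0) ≃* ↥sigmaOne.ker where
  toFun y := ⟨⟨((y : Fi23), 1), fixTo_mem y.2⟩, (ker_sigmaOne_iff _).mpr ⟨y.2, rfl⟩⟩
  invFun x := ⟨((x : subS1) : K).1, ((ker_sigmaOne_iff _).mp x.2).1⟩
  left_inv _ := rfl
  right_inv x := Subtype.ext (Subtype.ext (Prod.ext rfl ((ker_sigmaOne_iff _).mp x.2).2.symm))
  map_mul' _ _ := Subtype.ext (Subtype.ext (Prod.ext rfl (one_mul _).symm))

theorem right_sigma {g : ℕ} (h1 : 1 ≤ g) (h10 : g < 10) :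
    ∃ h : genK g ∈ subS1, sigmaOne ⟨genK g, h⟩ = Equiv.swap 1 2 := by
  have hm : genK g ∈ subS1 := right_le_S1 (Subgroup.subset_closure ⟨g, h1, h10, rfl⟩)
  refine ⟨hm, sigmaOne_eq ?_⟩
  have hc : classOK [g] [0, 2, 1, 3] = true := by
    interval_cases g
    exacts [letter1_ok, letter2_ok, letter3_ok, letter4_ok, letter5_ok, letter6_ok, letter7_ok,
      letter8_ok, letter9_ok]
  have h := permutes_word hc (Equiv.swap 1 2) (by decide)
  rw [prodW_cons, prodW_nil, mul_one] at h
  exact h

/-! ### The class of 1080 and the group they generate -/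

/-- a transposition of the class in the cover -/
noncomputable def qEight (j : Fin tblEight.N) : K :=
  (tp (Pts.point validPtsEight j), Multiplicative.ofAdd 1)

/-- the group they generate -/
noncomputable def subEight : Subgroup K := Subgroup.closure (Set.range qEight)

theorem qEight_sel (a : Fin tblEight.m) : qEight (Tbl.selPt validEight a) = genK (ptsOfEight.lt a) :=
  Prod.ext (Pts.point_sel validPtsEight a) rfl

theorem qEight_act (a : Fin tblEight.m) (j : Fin tblEight.N) :
    qEight (Tbl.selPt validEight a) * qEight j * (qEight (Tbl.selPt validEight a))⁻¹ =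
      qEight (Tbl.piPerm validEight a j) :=
  Prod.ext (Pts.point_act validPtsEight a j) (by simp [qEight])

/-- the class in the group it generates -/
noncomputable def familyEight :
    Fi22Three.GenFamily ↥subEight (Tbl.piPerm validEight) (Tbl.selPt validEight) where
  q j := ⟨qEight j, Subgroup.subset_closure ⟨j, rfl⟩⟩
  inj i j h := Fin.ext (Pts.pt_inj validPtsEight i.2 j.2
    (congrArg Fin.val (M24.tp_inj (congrArg (fun x : K => x.1) (congrArg Subtype.val h)))))
  gen := by
    refine eq_top_iff.2 fun x _ => ?_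
    have h : (x : K) ∈ (Subgroup.closure (Set.range fun j => (⟨qEight j, Subgroup.subset_closure ⟨j, rfl⟩⟩ :
        ↥subEight))).map subEight.subtype := by
      rw [MonoidHom.map_closure, ← Set.range_comp]
      exact x.2
    obtain ⟨y, hy, e⟩ := h
    exact Subtype.ext e ▸ hy
  act a j := Subtype.ext (qEight_act a j)
  reach := Tbl.reach_all validEight

theorem lets_range : ∀ a : Fin tblEight.m, 1 ≤ ptsOfEight.lt a ∧ ptsOfEight.lt a < 10 := by decide

theorem subEight_le : subEight ≤ subRight := by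
  intro x hx
  have h : (⟨x, hx⟩ : ↥subEight) ∈ Subgroup.closure (Set.range (familyEight.q ∘ Tbl.selPt validEight)) := by
    rw [familyEight.gen_sel]; trivial
  refine (Subgroup.closure_le (subRight.subgroupOf subEight)).mpr ?_ h
  rintro _ ⟨a, rfl⟩
  show qEight (Tbl.selPt validEight a) ∈ subRight
  rw [qEight_sel]
  exact Subgroup.subset_closure ⟨_, (lets_range a).1, (lets_range a).2, rfl⟩

/-- the inclusion -/
noncomputable def eightToS1 : ↥subEight →* subS1 := Subgroup.inclusion (subEight_le.trans right_le_S1)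

theorem sigma_eight (x : ↥subEight) : sigmaOne (eightToS1 x) ∈ Subgroup.zpowers (Equiv.swap (1 : Fin 3) 2) := by
  have h : x ∈ Subgroup.closure (Set.range (familyEight.q ∘ Tbl.selPt validEight)) := by
    rw [familyEight.gen_sel]; trivial
  refine (Subgroup.closure_le ((Subgroup.zpowers (Equiv.swap (1 : Fin 3) 2)).comap
    (sigmaOne.comp eightToS1))).mpr ?_ h
  rintro _ ⟨a, rfl⟩
  obtain ⟨hm, e⟩ := right_sigma (lets_range a).1 (lets_range a).2
  show sigmaOne (eightToS1 (familyEight.q (Tbl.selPt validEight a))) ∈ Subgroup.zpowers (Equiv.swap (1 : Fin 3) 2)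
  rw [show eightToS1 (familyEight.q (Tbl.selPt validEight a)) = ⟨genK (ptsOfEight.lt a), hm⟩ from
    Subtype.ext (qEight_sel a), e]
  exact Subgroup.mem_zpowers _

theorem commutator_eight_le : (commutator ↥subEight).map eightToS1 ≤ sigmaOne.ker := by
  rw [Subgroup.map_le_iff_le_comap, commutator_def, Subgroup.commutator_le]
  intro a _ b _
  rw [Subgroup.mem_comap, MonoidHom.mem_ker, map_commutatorElement, map_commutatorElement,
    commutatorElement_eq_one_iff_commute]
  obtain ⟨i, hi⟩ := Subgroup.mem_zpowers_iff.mp (sigma_eight a)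
  obtain ⟨j, hj⟩ := Subgroup.mem_zpowers_iff.mp (sigma_eight b)
  rw [← hi, ← hj]
  exact (Commute.refl _).zpow_zpow i j

/-! ### The kernel is `PΩ⁺(8, 3)` -/

/-- a hyperbolic basis for four squares -/
def hypM : Matrix (Fin 8) (Fin 4 ⊕ Fin 4) (ZMod 3) :=
  (!![0, 1, 0, 0, 0, 1, 0, 0; 1, 0, 0, 0, 1, 0, 0, 0; 1, 1, 0, 0, 2, 2, 0, 0; 1, 2, 0, 0, 2, 1, 0, 0;
     0, 0, 0, 1, 0, 0, 0, 1; 0, 0, 1, 0, 0, 0, 1, 0; 0, 0, 1, 1, 0, 0, 2, 2; 0, 0, 1, 2, 0, 0, 2, 1] :
    Matrix (Fin 8) (Fin 8) (ZMod 3)).submatrix id finSumFinEquiv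

/-- its inverse -/
def hypN : Matrix (Fin 4 ⊕ Fin 4) (Fin 8) (ZMod 3) :=
  (!![0, 2, 1, 1, 0, 0, 0, 0; 2, 0, 1, 2, 0, 0, 0, 0; 0, 0, 0, 0, 0, 2, 1, 1; 0, 0, 0, 0, 2, 0, 1, 2;
     0, 2, 2, 2, 0, 0, 0, 0; 2, 0, 2, 1, 0, 0, 0, 0; 0, 0, 0, 0, 0, 2, 2, 2; 0, 0, 0, 0, 2, 0, 2, 1] :
    Matrix (Fin 8) (Fin 8) (ZMod 3)).submatrix finSumFinEquiv id

theorem hyp_inv : hypM * hypN = 1 ∧ hypN * hypM = 1 := by decide +kernel

theorem hyp_block : ∀ a b c d : ZMod 3,
    (b + d) * (b + d) + (a + c) * (a + c) + (a + b + 2 * c + 2 * d) * (a + b + 2 * c + 2 * d) +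
      (a + 2 * b + 2 * c + d) * (a + 2 * b + 2 * c + d) = a * c + b * d := by decide +kernel

theorem hyp_form (v : Fin 4 ⊕ Fin 4 → ZMod 3) :
    sumSq 8 (Matrix.mulVec hypM v) = quadFormPlus 4 (ZMod 3) v := by
  have e : Matrix.mulVec hypM v =
      ![v (.inl 1) + v (.inr 1), v (.inl 0) + v (.inr 0), v (.inl 0) + v (.inl 1) + 2 * v (.inr 0) + 2 * v (.inr 1),
        v (.inl 0) + 2 * v (.inl 1) + 2 * v (.inr 0) + v (.inr 1),
        v (.inl 3) + v (.inr 3), v (.inl 2) + v (.inr 2), v (.inl 2) + v (.inl 3) + 2 * v (.inr 2) + 2 * v (.inr 3),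
        v (.inl 2) + 2 * v (.inl 3) + 2 * v (.inr 2) + v (.inr 3)] := by
    funext i
    fin_cases i <;>
      simp [hypM, Matrix.mulVec, dotProduct, Fintype.sum_sum_type, Fin.sum_univ_four, finSumFinEquiv] <;> ring
  rw [sumSq_apply, e, Fin.sum_univ_eight, quadFormPlus, Fin.sum_univ_four]
  have h0 := hyp_block (v (.inl 0)) (v (.inl 1)) (v (.inr 0)) (v (.inr 1))
  have h1 := hyp_block (v (.inl 2)) (v (.inl 3)) (v (.inr 2)) (v (.inr 3))
  simp only [Matrix.cons_val, Fin.isValue]
  linear_combination h0 + h1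

/-- the reflection group -/
abbrev reflEight : Subgroup (isometryGroup (ZMod 3) ⇑(sumSq 8)) := reflectionSubgroup (⇑(sumSq 8)) 1

theorem derived_refl_iso : Nonempty
    (↥((commutator ↥reflEight).map (QuotientGroup.mk' (Subgroup.center ↥reflEight))) ≃*
      POmega (ZMod 3) (quadFormPlus 4 (ZMod 3))) := by
  have hB : CfsgLib.Orth.Nondeg (sumSq 8) := fun x hx => (sumSq_nondeg 8).1 x hx
  have hn : 5 ≤ Module.finrank (ZMod 3) (Fin 8 → ZMod 3) := by simp
  let f := (QuotientGroup.mk' (Subgroup.center ↥reflEight)).comp (commutator ↥reflEight).subtype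
  have hker : f.ker = Subgroup.center ↥(commutator ↥reflEight) := by
    refine le_antisymm (fun x hx => ?_) fun x hx => ?_
    · rw [MonoidHom.mem_ker] at hx
      have h := Subgroup.mem_center_iff.mp ((QuotientGroup.eq_one_iff _).mp hx)
      exact Subgroup.mem_center_iff.mpr fun y => Subtype.ext (h y)
    · rw [MonoidHom.mem_ker]
      refine (QuotientGroup.eq_one_iff _).mpr ?_
      haveI : ((Subgroup.center ↥(commutator ↥reflEight)).map (commutator ↥reflEight).subtype).Normal :=
        ConjAct.normal_of_characteristic_of_normal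
      exact CfsgLib.Fischer.solvable_normal_le_center hB hn one_ne_zero
        (N := (Subgroup.center ↥(commutator ↥reflEight)).map (commutator ↥reflEight).subtype)
        (Group.isSolvable_of_comm (G := ↥((Subgroup.center ↥(commutator ↥reflEight)).map (commutator ↥reflEight).subtype))
          (by
            rintro ⟨_, u, hu, rfl⟩ ⟨_, w, hw, rfl⟩
            exact Subtype.ext (congrArg (fun z : ↥(commutator ↥reflEight) => (z : ↥reflEight))
              (Subgroup.mem_center_iff.mp hw u))))
        ⟨x, hx, rfl⟩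
  have hrange : f.range = (commutator ↥reflEight).map (QuotientGroup.mk' (Subgroup.center ↥reflEight)) := by
    rw [MonoidHom.range_comp, Subgroup.range_subtype]
  let a : ↥(commutator ↥reflEight) ≃* ↥(Omega (ZMod 3) ⇑(sumSq 8)) :=
    (Subgroup.equivMapOfInjective _ _ (Subgroup.subtype_injective _)).trans
      (MulEquiv.subgroupCongr (CfsgLib.Fischer.map_commutator_reflectionSubgroup hB hn one_ne_zero))
  obtain ⟨b⟩ := pomega_congr hypM hypN hyp_inv.1 hyp_inv.2 hyp_form
  exact ⟨(MulEquiv.subgroupCongr hrange).symm.trans <| (QuotientGroup.quotientKerEquivRange f).symm.trans <|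
    (QuotientGroup.quotientMulEquivOfEq hker).trans <| (centreQuotEquiv a).trans b.symm⟩

theorem eight_derived : ∃ Ψ : ↥(commutator ↥subEight) →* POmega (ZMod 3) (quadFormPlus 4 (ZMod 3)),
    Function.Surjective Ψ := by
  obtain ⟨i⟩ := derived_refl_iso
  obtain ⟨e⟩ := familyEight.quotient_iso (Tbl.reflFamily validEight)
  let f : ↥subEight →* ↥reflEight ⧸ Subgroup.center ↥reflEight :=
    e.toMonoidHom.comp (QuotientGroup.mk' _)
  have hf : Function.Surjective f := e.surjective.comp (QuotientGroup.mk'_surjective _)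
  have hmap : (commutator ↥subEight).map f =
      (commutator ↥reflEight).map (QuotientGroup.mk' (Subgroup.center ↥reflEight)) := by
    rw [commutator_def, commutator_def, Subgroup.map_commutator, Subgroup.map_commutator,
      Subgroup.map_top_of_surjective _ hf, Subgroup.map_top_of_surjective _ (QuotientGroup.mk'_surjective _)]
  refine ⟨i.toMonoidHom.comp ((MulEquiv.subgroupCongr hmap).toMonoidHom.comp (f.subgroupMap _)), ?_⟩
  exact i.surjective.comp ((MulEquiv.subgroupCongr hmap).surjective.comp (f.subgroupMap_surjective _))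

theorem card_commutator_eight :
    Nat.card ↥(fixTo 0) = 4952179814400 ∧ Nat.card ↥(commutator ↥subEight) = 4952179814400 ∧
      (commutator ↥subEight).map eightToS1 = sigmaOne.ker := by
  haveI : Finite K := Nat.finite_of_card_ne_zero (by
    rw [Nat.card_prod, Fi23Pres.card_faithful.1]; simp)
  obtain ⟨Ψ, hΨ⟩ := eight_derived
  have h1 : 4952179814400 ≤ Nat.card ↥(commutator ↥subEight) :=
    M24.pOmega_card ▸ Nat.card_le_card_of_surjective Ψ hΨ
  have hinj : Function.Injective eightToS1 := Subgroup.inclusion_injective _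
  have h2 : Nat.card ↥((commutator ↥subEight).map eightToS1) = Nat.card ↥(commutator ↥subEight) :=
    (Nat.card_congr ((commutator ↥subEight).equivMapOfInjective _ hinj).toEquiv).symm
  have h3 := Subgroup.card_le_of_le commutator_eight_le
  rw [h2, ← Nat.card_congr kerEquiv.toEquiv] at h3
  have h4 := card_fixed
  exact ⟨by omega, by omega, Subgroup.eq_of_le_of_card_ge commutator_eight_le (by
    rw [h2, ← Nat.card_congr kerEquiv.toEquiv]; omega)⟩

/-- The elements of Fi23 keeping the classes form `PΩ⁺(8, 3)`. -/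
theorem fixTo_zero_iso : Nonempty (↥(fixTo 0) ≃* POmega (ZMod 3) (quadFormPlus 4 (ZMod 3))) := by
  haveI : Finite K := Nat.finite_of_card_ne_zero (by
    rw [Nat.card_prod, Fi23Pres.card_faithful.1]; simp)
  obtain ⟨Ψ, hΨ⟩ := eight_derived
  obtain ⟨hc, hc', hmap⟩ := card_commutator_eight
  refine ⟨(kerEquiv.trans ((MulEquiv.subgroupCongr hmap).symm.trans
    ((commutator ↥subEight).equivMapOfInjective _ (Subgroup.inclusion_injective _)).symm)).trans
      (MulEquiv.ofBijective Ψ ((Nat.bijective_iff_surjective_and_card _).mpr ⟨hΨ, by rw [hc', M24.pOmega_card]⟩))⟩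

end CfsgLib.FischerTypes
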