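import Cfsg.Agent.Lib.FischerTypes.TypeTwentyThree
import Cfsg.Agent.Lib.FischerTypes.KernelEight
import Cfsg.Agent.Lib.Fi24Act.TransClass

/-!
The presented group Fi24 with its transpositions is of type M(24).
-/

set_option autoImplicit false
set_option linter.style.haveILetI false
set_option maxRecDepth 100000

namespace CfsgLib.FischerTypes.Full

open Cfsg Cfsg.Spor CfsgLib.CosetEnum CfsgLib.ThreeTransp CfsgLib.ThreeTransp.Relations
open CfsgLib.Fi24Pres CfsgLib.Fi24Act CfsgLib.FischerTypes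

/-- the transpositions of the cover of Fi23 -/
def classK : Set K := {k | k.1 ∈ Fi23Pres.transClass ∧ k.2 = Multiplicative.ofAdd 1}

theorem gen23_mem {g : ℕ} (hg : g < 10) : Fi23Pres.gen g ∈ Fi23Pres.transClass :=
  (M24.letterPt_spec hg).2 ▸ M24.tp_mem _

theorem genK_class {g : ℕ} (hg : g < 10) : genK g ∈ classK := ⟨gen23_mem hg, rfl⟩

theorem classK_conj {k : K} (hk : k ∈ classK) : ∃ x : K, x * genK 0 * x⁻¹ = k := by
  obtain ⟨c, hc⟩ := class_exists_conj Fi23Pres.transClass_three (gen23_mem (show 0 < 10 by norm_num)) hk.1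
  exact ⟨(c, 1), Prod.ext hc (by simp [genK, hk.2])⟩

theorem classK_smul (x : K) {k : K} (hk : k ∈ classK) : x * k * x⁻¹ ∈ classK :=
  ⟨class_conjClosed Fi23Pres.transClass_three x.1 _ hk.1, by simp [hk.2, mul_comm x.2]⟩

theorem commute_gen_eleven : ¬ Commute (gen 10) (gen 11) := by
  intro h
  have hm : gen 11 ∈ subH := by
    rw [← centralizer_ten, Subgroup.mem_centralizer_singleton_iff]
    exact h.symm.eq
  have hfix : actF (gen 11) pt0 = pt0 := subH_fix hm
  rw [base_moves.1] at hfix
  exact absurd (congrArg (fun p : X => p.1) hfix) (by decide : (1 : Fin 3) ≠ 0)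

theorem gen_ne_ten {g : ℕ} (hg : g < 10) : gen g ≠ gen 10 := by
  intro h
  rw [← psiK_genK (show g < 11 by omega), ← psiK_genK (show 10 < 11 by norm_num)] at h
  have h1 : Fi23Pres.gen g = Fi23Pres.gen 10 := congrArg Prod.fst (psiK_injective h)
  have h10 : Fi23Pres.gen 10 = 1 := ten_fst
  exact ne_one_of_mem Fi23Pres.transClass_three.1 (gen23_mem hg) (h1.trans h10)

theorem fi24_noncomm : ∃ x ∈ transClass, ∃ y ∈ transClass, ¬ Commute x y :=
  ⟨gen 10, Fi24Act.gen_mem (by norm_num), gen 11, Fi24Act.gen_mem (by norm_num), commute_gen_eleven⟩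

theorem ker_noncomm : ∃ a b : par.ker, ¬ Commute a b := by
  haveI := simple_ker
  by_contra! h
  letI : CommGroup par.ker := { (inferInstance : Group par.ker) with mul_comm := fun a b => (h a b).eq }
  have hprime := IsSimpleGroup.prime_card (α := par.ker)
  rw [card_ker] at hprime
  exact (by norm_num : ¬ Nat.Prime 1255205709190661721292800) hprime

theorem psiK_comm {x y : K} (h : Commute (psiK x) (psiK y)) : Commute x y :=
  psiK_injective (by rw [map_mul, map_mul]; exact h.eq)

theorem fi24_center : Subgroup.center Fi24 = ⊥ := by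
  refine (Subgroup.eq_bot_iff_forall _).mpr fun z hz => ?_
  have hc := Subgroup.mem_center_iff.mp hz
  have hm : z ∈ subH := by
    rw [← centralizer_ten, Subgroup.mem_centralizer_singleton_iff]
    exact (hc _).symm
  rw [subH_eq] at hm
  obtain ⟨x, rfl⟩ := hm
  have h1 : x.1 ∈ Subgroup.center Fi23 := Subgroup.mem_center_iff.mpr fun w => by
    have h : psiK ((w, 1) * x) = psiK (x * (w, 1)) := by rw [map_mul, map_mul]; exact hc _
    exact congrArg Prod.fst (psiK_injective h)
  rw [fi23_center, Subgroup.mem_bot] at h1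
  rcases (by decide : ∀ e : Multiplicative (ZMod 2), e = 1 ∨ e = Multiplicative.ofAdd 1) x.2 with e | e
  · rw [show x = 1 from Prod.ext h1 e, map_one]
  · exfalso
    have ex : x = genK 10 := Prod.ext (h1.trans (show Fi23Pres.gen 10 = 1 from ten_fst).symm) e
    refine commute_gen_eleven ?_
    have := hc (gen 11)
    rw [ex, psiK_genK (show 10 < 11 by norm_num)] at this
    exact this.symm

theorem fi24_primitive : IsPrimitiveUnderConj transClass := by
  haveI : Finite Fi24 := finite_card.1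
  haveI := simple_ker
  exact primitive_of_simple_normal transClass_three fi24_noncomm fi24_center par.ker ker_noncomm
    ker_par_index.le

/-! ### The perp of a transposition -/

theorem nbr_ten : nbr transClass (gen 10) = psiK '' classK := by
  ext y
  constructor
  · rintro ⟨hy, hne, hcomm⟩
    obtain ⟨g, rfl⟩ := isConj_iff.mp (hy : IsConj (gen 10) y)
    obtain ⟨s, x, hx⟩ := ptK_surj (actF g pt0)
    rw [pt_move] at hx
    have key : ∀ h : Fi24, actF h pt0 = ptK s 1 →
        g * gen 10 * g⁻¹ = psiK x⁻¹ * (h * gen 10 * h⁻¹) * (psiK x⁻¹)⁻¹ := by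
      intro h eh
      rw [conj_of_point (h := psiK x⁻¹ * h) (by rw [map_mul, Equiv.Perm.mul_apply, eh, actF_psiK, hx])]
      group
    have hu : Commute (psiK x⁻¹) (gen 10) := ten_subH (psiK_mem _)
    fin_cases s
    · exfalso
      rw [key 1 (by rw [map_one]; rfl), one_mul, inv_one, mul_one, hu.eq, mul_inv_cancel_right] at hne
      exact hne rfl
    · exfalso
      rw [key _ base_moves.1] at hcomm
      have h1 : Commute (gen 10) (gen 11 * gen 10 * (gen 11)⁻¹) := by
        refine (Commute.conj_iff (psiK x⁻¹)).mp ?_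
        rwa [hu.eq, mul_inv_cancel_right]
      have hb : gen 11 * gen 10 * gen 11 = gen 10 * gen 11 * gen 10 :=
        cox.braid 11 (by norm_num) 10 (by norm_num) (by decide)
      rw [inv_eq_of_mul_eq_one_right (gen_sq 11), hb] at h1
      have h2 := (Commute.conj_iff (gen 10)).mpr h1
      rw [inv_eq_of_mul_eq_one_right (gen_sq 10), gen_sq, one_mul,
        show gen 10 * (gen 10 * gen 11 * gen 10) * gen 10 = gen 11 by
          simp only [← mul_assoc, gen_sq, one_mul]; rw [mul_assoc, gen_sq, mul_one]] at h2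
      exact commute_gen_eleven h2
    · refine ⟨x⁻¹ * genK 0 * x⁻¹⁻¹, classK_smul _ (genK_class (by norm_num)), ?_⟩
      rw [key _ base_moves.2, base_conj.2, map_mul, map_mul, map_inv psiK x⁻¹,
        psiK_genK (show 0 < 11 by norm_num)]
  · rintro ⟨k, hk, rfl⟩
    obtain ⟨x, rfl⟩ := classK_conj hk
    have hu : Commute (psiK x) (gen 10) := ten_subH (psiK_mem x)
    rw [map_mul, map_mul, map_inv, psiK_genK (show 0 < 11 by norm_num)]
    exact conj_mem_nbr (class_conjClosed transClass_three) hu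
      ⟨Fi24Act.gen_mem (by norm_num), gen_ne_ten (by norm_num), (ten_comm (show 0 < 11 by norm_num)).symm⟩

theorem perp24_eq : perpGroup transClass (gen 10) = subH := by
  refine le_antisymm ((Subgroup.closure_le _).mpr fun y hy => ?_) ((Subgroup.closure_le _).mpr ?_)
  · rw [nbr_ten] at hy
    obtain ⟨k, -, rfl⟩ := hy
    exact psiK_mem k
  · have hsmall : ∀ g < 10, gen g ∈ perpGroup transClass (gen 10) := fun g hg => by
      refine Subgroup.subset_closure ?_
      rw [nbr_ten]
      exact ⟨genK g, genK_class hg, psiK_genK (by omega)⟩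
    rintro _ ⟨g, hg, rfl⟩
    rcases Nat.lt_or_ge g 10 with h | h
    · exact hsmall g h
    · have hmem : prodW gen sevenW ∈ perpGroup transClass (gen 10) :=
        Subgroup.list_prod_mem _ fun z hz => by
          obtain ⟨i, hi, rfl⟩ := List.mem_map.mp hz
          exact hsmall i ((by decide +kernel : ∀ i ∈ sevenW, i < 10) i hi)
      rw [← gen_ten] at hmem
      rw [show g = 10 by omega]
      exact hmem

/-- the cover onto the perp group -/
noncomputable def toPerp : K →* ↥(perpGroup transClass (gen 10)) :=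
  psiK.codRestrict _ fun x => perp24_eq ▸ psiK_mem x

theorem toPerp_val (x : K) : (toPerp x : Fi24) = psiK x := rfl

theorem toPerp_surjective : Function.Surjective toPerp := fun y => by
  have h : (y : Fi24) ∈ psiK.range := by rw [← subH_eq, ← perp24_eq]; exact y.2
  obtain ⟨x, hx⟩ := h
  exact ⟨x, Subtype.ext hx⟩

theorem toPerp_even (k : K) :
    proj transClass (gen 10) (toPerp k) = proj transClass (gen 10) (toPerp (k.1, 1)) := by
  have hc : toPerp (1, k.2) ∈ Subgroup.center ↥(perpGroup transClass (gen 10)) :=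
    Subgroup.mem_center_iff.mpr fun y => by
      obtain ⟨x, rfl⟩ := toPerp_surjective y
      rw [← map_mul, ← map_mul]
      exact congrArg toPerp (Prod.ext (by simp) (mul_comm _ _))
  conv_lhs => rw [show k = (k.1, 1) * (1, k.2) from Prod.ext (mul_one _).symm (one_mul _).symm]
  rw [map_mul, map_mul, show proj transClass (gen 10) (toPerp (1, k.2)) = 1 from
    (QuotientGroup.eq_one_iff _).mpr hc, mul_one]

/-- Fi23 into the quotient of the perp group -/
noncomputable def toQuot : Fi23 →* PerpQuot transClass (gen 10) :=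
  (proj transClass (gen 10)).comp (toPerp.comp (MonoidHom.inl Fi23 (Multiplicative (ZMod 2))))

theorem toQuot_bijective : Function.Bijective toQuot := by
  constructor
  · rw [injective_iff_map_eq_one]
    intro y hy
    have h : toPerp (y, 1) ∈ Subgroup.center _ := (QuotientGroup.eq_one_iff _).mp hy
    have h1 : y ∈ Subgroup.center Fi23 := Subgroup.mem_center_iff.mpr fun w => by
      have := congrArg Subtype.val (Subgroup.mem_center_iff.mp h (toPerp (w, 1)))
      rw [Subgroup.coe_mul, Subgroup.coe_mul, toPerp_val, toPerp_val, ← map_mul, ← map_mul] at this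
      exact congrArg Prod.fst (psiK_injective this)
    rwa [fi23_center, Subgroup.mem_bot] at h1
  · intro q
    obtain ⟨u, rfl⟩ := QuotientGroup.mk'_surjective _ q
    obtain ⟨x, rfl⟩ := toPerp_surjective u
    exact ⟨x.1, (toPerp_even x).symm⟩

/-- the perp quotient is Fi23 -/
noncomputable def perpIso24 : Fi23 ≃* PerpQuot transClass (gen 10) :=
  MulEquiv.ofBijective toQuot toQuot_bijective

theorem perpIso24_class : perpIso24 '' Fi23Pres.transClass = perpImage transClass (gen 10) := by
  ext z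
  constructor
  · rintro ⟨t, ht, rfl⟩
    refine ⟨toPerp (t, Multiplicative.ofAdd 1), ?_, toPerp_even _⟩
    show psiK _ ∈ nbr transClass (gen 10)
    rw [nbr_ten]
    exact ⟨_, ⟨ht, rfl⟩, rfl⟩
  · rintro ⟨u, hu, rfl⟩
    obtain ⟨k, rfl⟩ := toPerp_surjective u
    rw [Set.mem_ofPred_eq, toPerp_val, nbr_ten, psiK_injective.mem_set_image] at hu
    exact ⟨k.1, hu.1, (toPerp_even k).symm⟩

/-! ### The perp of a non-commuting pair -/

theorem commute_eleven (k : K) : Commute (psiK k) (gen 11) ↔ k ∈ subS1 := by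
  have hk : Commute (psiK k) (gen 10) := ten_subH (psiK_mem k)
  have hb : gen 11 * gen 10 * gen 11 = gen 10 * gen 11 * gen 10 :=
    cox.braid 11 (by norm_num) 10 (by norm_num) (by decide)
  have hi : ∀ x, (gen x)⁻¹ = gen x := fun x => inv_eq_of_mul_eq_one_right (gen_sq x)
  have h1 : Commute (psiK k) (gen 11) ↔ Commute (psiK k) (gen 11 * gen 10 * (gen 11)⁻¹) := by
    rw [hi, hb]
    refine ⟨fun h => (hk.mul_right h).mul_right hk, fun h => ?_⟩
    have := (hk.mul_right h).mul_right hk
    rwa [show gen 10 * (gen 10 * gen 11 * gen 10) * gen 10 = gen 11 by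
      simp only [← mul_assoc, gen_sq, one_mul]; rw [mul_assoc, gen_sq, mul_one]] at this
  have h2 : Commute (psiK k) (gen 11 * gen 10 * (gen 11)⁻¹) ↔ actK k (ptK 1 1) = ptK 1 1 := by
    rw [← actF_psiK, ← base_moves.1]
    have hconj : gen 11 * ((gen 11)⁻¹ * psiK k * gen 11) * (gen 11)⁻¹ = psiK k := by group
    constructor
    · intro h
      have h' : Commute ((gen 11)⁻¹ * psiK k * gen 11) (gen 10) :=
        (Commute.conj_iff (gen 11)).mp (by rwa [hconj])
      have hm : (gen 11)⁻¹ * psiK k * gen 11 ∈ subH := by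
        rw [← centralizer_ten, Subgroup.mem_centralizer_singleton_iff]
        exact h'.eq
      have hfix : actF ((gen 11)⁻¹ * psiK k * gen 11) pt0 = pt0 := subH_fix hm
      rw [map_mul, map_mul, map_inv, Equiv.Perm.mul_apply, Equiv.Perm.mul_apply] at hfix
      exact Equiv.Perm.inv_eq_iff_eq.mp hfix
    · intro h
      have hm : (gen 11)⁻¹ * psiK k * gen 11 ∈ subH := by
        rw [← stab_eq]
        show actF ((gen 11)⁻¹ * psiK k * gen 11) pt0 = pt0
        rw [map_mul, map_mul, map_inv, Equiv.Perm.mul_apply, Equiv.Perm.mul_apply, h, Equiv.Perm.inv_def,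
          Equiv.symm_apply_apply]
      have h' := (Commute.conj_iff (gen 11)).mpr (ten_subH hm)
      rwa [hconj] at h'
  rw [h1, h2, actK_ptK, ptK_eq, inv_one, mul_one, one_mul]
  exact inv_mem_iff

theorem pairSet24_eq : nbr transClass (gen 10) ∩ nbr transClass (gen 11) = psiK '' (classK ∩ ↑subS1) := by
  ext y
  constructor
  · rintro ⟨hy, -, -, h11⟩
    rw [nbr_ten] at hy
    obtain ⟨k, hk, rfl⟩ := hy
    exact ⟨k, ⟨hk, (commute_eleven k).mp h11.symm⟩, rfl⟩
  · rintro ⟨k, ⟨hk, hs⟩, rfl⟩
    have hy : psiK k ∈ nbr transClass (gen 10) := by rw [nbr_ten]; exact ⟨k, hk, rfl⟩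
    exact ⟨hy, hy.1, fun e => commute_gen_eleven (e ▸ hy.2.2), ((commute_eleven k).mpr hs).symm⟩

theorem perm_three_gen : ∀ σ : Equiv.Perm (Fin 3), σ = 1 ∨ σ = Equiv.swap 1 2 ∨ σ = Equiv.swap 0 2 ∨
    σ = Equiv.swap 1 2 * Equiv.swap 0 2 ∨ σ = Equiv.swap 0 2 * Equiv.swap 1 2 ∨
    σ = Equiv.swap 1 2 * Equiv.swap 0 2 * Equiv.swap 1 2 := by
  decide +kernel

theorem closure_pair : Subgroup.closure (classK ∩ ↑subS1) = subS1 := by
  refine le_antisymm ((Subgroup.closure_le _).mpr Set.inter_subset_right) fun x hx => ?_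
  set C := Subgroup.closure (classK ∩ ↑subS1) with hC
  have hEight : subEight ≤ C := by
    refine (Subgroup.closure_le _).mpr ?_
    rintro _ ⟨j, rfl⟩
    exact Subgroup.subset_closure ⟨⟨M24.tp_mem _, rfl⟩,
      right_le_S1 (subEight_le (Subgroup.subset_closure ⟨j, rfl⟩))⟩
  have hker : ∀ y : subS1, sigmaOne y = 1 → (y : K) ∈ C := fun y hy => by
    obtain ⟨u, -, e⟩ : y ∈ (commutator ↥subEight).map eightToS1 :=
      card_commutator_eight.2.2.symm ▸ MonoidHom.mem_ker.mpr hy
    rw [← e]
    exact hEight u.2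
  obtain ⟨h1, e1⟩ := right_sigma (show 1 ≤ 1 from le_rfl) (show 1 < 10 by norm_num)
  set t : subS1 := ⟨prodW genK tauW, tau_mem⟩
  set a : subS1 := ⟨genK 1, h1⟩
  have et : sigmaOne t = Equiv.swap 0 1 := sigmaOne_eq tau_permutes
  have hb : ((t * a * t⁻¹ : subS1) : K) ∈ C :=
    Subgroup.subset_closure ⟨classK_smul _ (genK_class (by norm_num)), (t * a * t⁻¹).2⟩
  have ha : (a : K) ∈ C := Subgroup.subset_closure ⟨genK_class (by norm_num), h1⟩
  have eb : sigmaOne (t * a * t⁻¹) = Equiv.swap 0 2 := by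
    rw [map_mul, map_mul, map_inv, et, e1]
    decide +kernel
  obtain ⟨c, hc, ec⟩ : ∃ c : subS1, (c : K) ∈ C ∧ sigmaOne c = sigmaOne ⟨x, hx⟩ := by
    rcases perm_three_gen (sigmaOne ⟨x, hx⟩) with e | e | e | e | e | e <;> rw [e]
    · exact ⟨1, one_mem _, map_one _⟩
    · exact ⟨a, ha, e1⟩
    · exact ⟨_, hb, eb⟩
    · exact ⟨a * (t * a * t⁻¹), mul_mem ha hb, by rw [map_mul sigmaOne a, e1, eb]⟩
    · exact ⟨(t * a * t⁻¹) * a, mul_mem hb ha, by rw [map_mul sigmaOne (t * a * t⁻¹) a, e1, eb]⟩
    · exact ⟨a * (t * a * t⁻¹) * a, mul_mem (mul_mem ha hb) ha, by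
        rw [map_mul sigmaOne (a * _) a, map_mul sigmaOne a, e1, eb]⟩
  have h := hker (c⁻¹ * ⟨x, hx⟩) (by rw [map_mul, map_inv, ec, inv_mul_cancel])
  have h' := mul_mem hc h
  rwa [← Subgroup.coe_mul, mul_inv_cancel_left] at h'

theorem sigmaOne_surjective : Function.Surjective sigmaOne := by
  obtain ⟨h1, e1⟩ := right_sigma (show 1 ≤ 1 from le_rfl) (show 1 < 10 by norm_num)
  have et : sigmaOne ⟨prodW genK tauW, tau_mem⟩ = Equiv.swap 0 1 := sigmaOne_eq tau_permutes
  intro σ
  have hall : ∀ τ ∈ ({Equiv.swap 1 2, Equiv.swap 0 2} : Set (Equiv.Perm (Fin 3))), τ ∈ sigmaOne.range := by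
    rintro τ (rfl | rfl)
    · exact ⟨_, e1⟩
    · exact ⟨⟨prodW genK tauW, tau_mem⟩ * ⟨genK 1, h1⟩ * ⟨prodW genK tauW, tau_mem⟩⁻¹, by
        rw [map_mul, map_mul, map_inv, et, e1]; decide +kernel⟩
  have ha := hall (Equiv.swap 1 2) (Or.inl rfl)
  have hb := hall (Equiv.swap 0 2) (Or.inr rfl)
  rcases perm_three_gen σ with e | e | e | e | e | e <;> rw [e]
  exacts [one_mem sigmaOne.range, ha, hb, mul_mem ha hb, mul_mem hb ha, mul_mem (mul_mem ha hb) ha]

theorem center_subS1 : Subgroup.center subS1 = ⊥ := by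
  refine (Subgroup.eq_bot_iff_forall _).mpr fun z hz => ?_
  have hc : sigmaOne z ∈ Subgroup.center (Equiv.Perm (Fin 3)) := Subgroup.mem_center_iff.mpr fun σ => by
    obtain ⟨w, rfl⟩ := sigmaOne_surjective σ
    rw [← map_mul, ← map_mul, Subgroup.mem_center_iff.mp hz w]
  have h1 : sigmaOne z = 1 :=
    (by decide +kernel : ∀ σ : Equiv.Perm (Fin 3), (∀ τ, τ * σ = σ * τ) → σ = 1) _
      (Subgroup.mem_center_iff.mp hc)
  obtain ⟨i⟩ := fixTo_zero_iso
  haveI : Fact (Nat.Prime 3) := ⟨Nat.prime_three⟩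
  haveI : IsSimpleGroup (POmega (ZMod 3) (quadFormPlus 4 (ZMod 3))) := Cfsg.Agent.S0296.result 4 le_rfl
  let f := (kerEquiv.symm.trans i : ↥sigmaOne.ker ≃* POmega (ZMod 3) (quadFormPlus 4 (ZMod 3)))
  haveI : IsSimpleGroup ↥sigmaOne.ker := f.isSimpleGroup
  have hbot : Subgroup.center ↥sigmaOne.ker = ⊥ := by
    refine center_eq_bot_of_simple ?_
    by_contra! hcom
    letI : CommGroup ↥sigmaOne.ker :=
      { (inferInstance : Group ↥sigmaOne.ker) with mul_comm := fun a b => (hcom a b).eq }
    have hp := IsSimpleGroup.prime_card (α := ↥sigmaOne.ker)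
    rw [Nat.card_congr f.toEquiv, M24.pOmega_card] at hp
    norm_num at hp
  have : (⟨z, h1⟩ : ↥sigmaOne.ker) ∈ Subgroup.center ↥sigmaOne.ker := Subgroup.mem_center_iff.mpr fun w =>
    Subtype.ext (Subgroup.mem_center_iff.mp hz w.1)
  rw [hbot, Subgroup.mem_bot] at this
  exact congrArg Subtype.val this

/-- the stabiliser of the classes is the perp group of the pair -/
noncomputable def pairIso24 :
    ↥subS1 ≃* ↥(Subgroup.closure (nbr transClass (gen 10) ∩ nbr transClass (gen 11))) :=
  (subS1.equivMapOfInjective psiK psiK_injective).trans (MulEquiv.subgroupCongr (by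
    rw [pairSet24_eq, ← MonoidHom.map_closure, closure_pair]))

/-- Fi24 is of type M(24). -/
theorem fi24_type : IsOfTypeM24 Fi24 transClass := by
  refine ⟨fi24_center, gen 10, Fi24Act.gen_mem (by norm_num), gen 11, Fi24Act.gen_mem (by norm_num),
    commute_gen_eleven, ?_, ?_⟩
  · have h := typeM23_map perpIso24 _ fi23_type
    rw [perpIso24_class] at h
    exact h
  let f : ↥subS1 ≃* ↥(Subgroup.closure (nbr transClass (gen 10) ∩ nbr transClass (gen 11))) ⧸
      Subgroup.center ↥(Subgroup.closure (nbr transClass (gen 10) ∩ nbr transClass (gen 11))) :=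
    (QuotientGroup.quotientBot.symm.trans (QuotientGroup.quotientMulEquivOfEq center_subS1.symm)).trans
      (centreQuotEquiv pairIso24)
  obtain ⟨i⟩ := fixTo_zero_iso
  set N := sigmaOne.ker.map f.toMonoidHom with hN
  have hn : N.Normal := (inferInstance : sigmaOne.ker.Normal).map _ f.surjective
  exact ⟨N, hn,
    ⟨((sigmaOne.ker.equivMapOfInjective f.toMonoidHom f.injective).symm.trans kerEquiv.symm).trans i⟩,
    ⟨(@QuotientGroup.congr _ _ _ _ sigmaOne.ker N _ hn f hN.symm).symm.trans
      (QuotientGroup.quotientKerEquivOfSurjective sigmaOne sigmaOne_surjective)⟩⟩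

end CfsgLib.FischerTypes.Full
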