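import Cfsg.Agent.Lib.FischerTypes.GroupDefs
import Cfsg.Agent.Lib.FischerTypes.DataSeven

/-!
The transpositions over the tables in dimension seven.
-/

set_option autoImplicit false
set_option maxRecDepth 100000

namespace CfsgLib.FischerTypes

open CfsgLib.CosetEnum

/-- the matching points -/
def ptsOfSeven : Pts tblSeven := ⟨ptsSeven, srtSeven, rnkSeven, [0, 1, 2, 3, 4, 5, 7, 8]⟩

theorem seven_letters : ptsOfSeven.letOK = true := by decide +kernel

theorem seven_points : allUp ptsOfSeven.oneOK 11 0 = true := by decide +kernel

theorem seven_both : allUp (bothOK ptsOfSeven) 11 0 = true := by decide +kernel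

end CfsgLib.FischerTypes
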