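import Cfsg.Agent.Lib.FischerTypes.DataSeven

/-!
Checks of the tables in dimension seven.
-/

set_option autoImplicit false
set_option maxRecDepth 100000

namespace CfsgLib.FischerTypes

open CfsgLib.CosetEnum

theorem seven_sel : tblSeven.selOK = true := by decide +kernel

theorem seven_pt : allUp tblSeven.ptOK 11 0 = true := by decide +kernel

theorem seven_move : ∀ a < 8, allUp (tblSeven.moveOK a) 11 0 = true := by decide +kernel

theorem seven_cover : allUp tblSeven.coverOK 13 0 = true := by decide +kernel

end CfsgLib.FischerTypes
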