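import Cfsg.Agent.Lib.FischerTypes.TableDefs
import Cfsg.Agent.Lib.Fi23Pres.OutBase
import Cfsg.Agent.Lib.M24.OrbitChecks

/-!
Checks that the transpositions of Fi23 follow the tables of reflections.
-/

set_option autoImplicit false

namespace CfsgLib.FischerTypes

open CfsgLib.CosetEnum CfsgLib.Fi23Pres

/-- Points matched with the reflections. -/
structure Pts (T : Tbl) where
  /-- the points -/
  pts : PTab
  /-- indices by increasing point -/
  srt : PTab
  /-- ranks -/
  rnk : PTab
  /-- the letters of the chosen reflections -/
  lets : List ℕ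

namespace Pts

variable {T : Tbl} (R : Pts T)

/-- the point of a reflection -/
noncomputable def pt (j : ℕ) : ℕ := R.pts.at' (nat_lit 15) j

/-- the letter of a chosen reflection -/
def lt (a : ℕ) : ℕ := R.lets.getD a 0

/-- one reflection -/
noncomputable def oneOK (j : ℕ) : Bool :=
  strict j fun j => pick (Nat.blt j T.N)
    (strict (R.pt j) fun p => strict (R.rnk.at' (nat_lit 11) j) fun k =>
      Nat.blt p certA.N && Nat.blt k T.N && Nat.beq (R.srt.at' (nat_lit 11) k) j &&
        (Nat.beq j 0 || Nat.blt (R.pt (R.srt.at' (nat_lit 11) (j - 1))) (R.pt (R.srt.at' (nat_lit 11) j))) &&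
        ((List.range T.m).all fun a => Nat.beq (certA.run p (certA.revInv [R.lt a])) (R.pt (T.P a j))))
    true

/-- the chosen reflections are the letters -/
noncomputable def letOK : Bool :=
  (List.range T.m).all fun a => Nat.blt (R.lt a) 10 && Nat.beq (R.pt (T.S a)) (M24.tenPts.getD (R.lt a) 0)

end Pts

/-- a point commutes with the two standard ones -/
noncomputable def bothOK {T : Tbl} (R : Pts T) (j : ℕ) : Bool :=
  strict j fun j => pick (Nat.blt j T.N)
    (strict (R.pt j) fun p => certA.relB commMask 0 p && certA.relB commMask 1 p &&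
      !(Nat.beq p 0) && !(Nat.beq p 1))
    true

end CfsgLib.FischerTypes
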