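import Cfsg.Agent.Lib.FischerTypes.ReflTable
import Cfsg.Agent.Lib.FischerTypes.GroupDefs
import Cfsg.Agent.Lib.M24.Shape

/-!
The transpositions of Fi23 over checked tables.
-/

set_option autoImplicit false

namespace CfsgLib.FischerTypes

open Cfsg CfsgLib.CosetEnum CfsgLib.Fi23Pres Cfsg.Spor
open CfsgLib.M24 (tp)

namespace Pts

/-- the checks -/
structure Valid {T : Tbl} (R : Pts T) : Prop where
  tbl : T.Valid
  lets : R.letOK = true
  one : allUp R.oneOK 11 0 = true

variable {T : Tbl} {R : Pts T} (hR : R.Valid)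
include hR

theorem one_spec {j : ℕ} (hj : j < T.N) :
    R.pt j < certA.N ∧ R.rnk.at' (nat_lit 11) j < T.N ∧
      R.srt.at' (nat_lit 11) (R.rnk.at' (nat_lit 11) j) = j ∧
      (j = 0 ∨ R.pt (R.srt.at' (nat_lit 11) (j - 1)) < R.pt (R.srt.at' (nat_lit 11) j)) ∧
      ∀ a < T.m, certA.run (R.pt j) (certA.revInv [R.lt a]) = R.pt (T.P a j) := by
  have h := allUp_spec hR.one j (Nat.zero_le _) (by have := hR.tbl.small.1; omega)
  unfold oneOK at h
  simp only [strict_eq, Nat.blt_eq.mpr hj, pick_true, Bool.and_eq_true, Bool.or_eq_true, Nat.beq_eq,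
    Nat.blt_eq, List.all_eq_true, List.mem_range] at h
  exact ⟨h.1.1.1.1, h.1.1.1.2, h.1.1.2, h.1.2, h.2⟩

theorem pt_inj {i j : ℕ} (hi : i < T.N) (hj : j < T.N) (h : R.pt i = R.pt j) : i = j := by
  have hmono : ∀ l k, k < l → l < T.N →
      R.pt (R.srt.at' (nat_lit 11) k) < R.pt (R.srt.at' (nat_lit 11) l) := by
    intro l
    induction l with
    | zero => intro k hk; omega
    | succ l ih =>
      intro k hk hl
      have h1 := (one_spec hR hl).2.2.2.1.resolve_left (by omega)
      rw [Nat.add_sub_cancel] at h1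
      rcases Nat.lt_succ_iff_lt_or_eq.mp hk with hk' | rfl
      · exact (ih k hk' (by omega)).trans h1
      · exact h1
  have e : R.rnk.at' (nat_lit 11) i = R.rnk.at' (nat_lit 11) j := by
    by_contra hne
    rcases Nat.lt_or_gt_of_ne hne with hlt | hlt
    · have := hmono _ _ hlt (one_spec hR hj).2.1
      rw [(one_spec hR hi).2.2.1, (one_spec hR hj).2.2.1, h] at this
      exact lt_irrefl _ this
    · have := hmono _ _ hlt (one_spec hR hi).2.1
      rw [(one_spec hR hi).2.2.1, (one_spec hR hj).2.2.1, h] at this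
      exact lt_irrefl _ this
  rw [← (one_spec hR hi).2.2.1, e, (one_spec hR hj).2.2.1]

/-- the point of a reflection -/
noncomputable def point (j : Fin T.N) : M24.Pt := ⟨R.pt j, (one_spec hR j.2).1⟩

theorem lt_ten {a : ℕ} (ha : a < T.m) : R.lt a < 10 := by
  have h := hR.lets
  simp only [letOK, List.all_eq_true, List.mem_range, Bool.and_eq_true, Nat.blt_eq] at h
  exact (h a ha).1

theorem point_sel (a : Fin T.m) : tp (point hR (Tbl.selPt hR.tbl a)) = gen (R.lt a) := by
  have h := hR.lets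
  simp only [letOK, List.all_eq_true, List.mem_range, Bool.and_eq_true, Nat.beq_eq] at h
  obtain ⟨e, e'⟩ := M24.letterPt_spec (lt_ten hR a.2)
  rw [← e']
  exact congrArg tp (Fin.ext (show R.pt (T.S a) = _ by rw [e, (h a a.2).2]))

theorem point_act (a : Fin T.m) (j : Fin T.N) :
    tp (point hR (Tbl.selPt hR.tbl a)) * tp (point hR j) * (tp (point hR (Tbl.selPt hR.tbl a)))⁻¹ =
      tp (point hR (Tbl.piPerm hR.tbl a j)) := by
  rw [M24.tp_smul, point_sel]
  refine congrArg tp (Fin.ext ?_)
  have h := setupA.rho_prodW (w := [R.lt a]) (by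
    intro g hg
    rw [List.mem_singleton] at hg
    rw [hg, show certA.K = 10 from rfl]
    exact lt_ten hR a.2) (point hR j)
  rw [prodW_cons, prodW_nil, mul_one] at h
  exact h.trans ((one_spec hR j.2).2.2.2.2 a a.2)

end Pts

end CfsgLib.FischerTypes
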