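import Cfsg.Agent.Lib.FischerTypes.TypeTwentyTwo
import Cfsg.Agent.Lib.FischerTypes.PtsFamily
import Cfsg.Agent.Lib.FischerTypes.ChkSeven
import Cfsg.Agent.Lib.FischerTypes.ChkPtsSeven
import Cfsg.Agent.Lib.Fi23ThreeA.Main
import Cfsg.Agent.Lib.Fi23Pres.Cover
import Cfsg.Agent.Lib.M24.Pairs

/-!
The presented group Fi23 with its transpositions is of type M(23).
-/

set_option autoImplicit false
set_option linter.style.haveILetI false

namespace CfsgLib.FischerTypes

open Cfsg Cfsg.Spor CfsgLib.CosetEnum CfsgLib.ThreeTransp CfsgLib.ThreeTransp.Relations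
open CfsgLib.Fi23Pres
open CfsgLib.M24 (tp comB letterPt)

theorem validSeven : tblSeven.Valid where
  sel := seven_sel
  pt := seven_pt
  move := seven_move
  cover := seven_cover
  small := ⟨by decide, by decide⟩

theorem validPtsSeven : ptsOfSeven.Valid where
  tbl := validSeven
  lets := seven_letters
  one := seven_points

theorem fi23_noncomm : ∃ x ∈ transClass, ∃ y ∈ transClass, ¬ Commute x y := by
  refine ⟨central, ?_, _, Fi23Inv.tr_mem ⟨1, Fi23ThreeA.N_pts.2.1⟩, Fi23ThreeA.one_noncomm⟩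
  exact mem_conjugatesOf_self

theorem fi23_center : Subgroup.center Fi23 = ⊥ := by
  haveI : IsSimpleGroup Fi23 := Fi23Pres.isFi23.1
  obtain ⟨x, -, y, -, h⟩ := fi23_noncomm
  exact center_eq_bot_of_simple ⟨x, y, h⟩

theorem fi23_primitive : IsPrimitiveUnderConj transClass := by
  haveI : Finite Fi23 := Nat.finite_of_card_ne_zero (by rw [Fi23Pres.card_faithful.1]; norm_num)
  haveI : IsSimpleGroup Fi23 := Fi23Pres.isFi23.1
  haveI : IsSimpleGroup (⊤ : Subgroup Fi23) := Subgroup.topEquiv.isSimpleGroup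
  obtain ⟨x, -, y, -, h⟩ := fi23_noncomm
  exact primitive_of_simple_normal transClass_three fi23_noncomm fi23_center ⊤
    ⟨⟨x, trivial⟩, ⟨y, trivial⟩, fun e => h (e.map (Subgroup.subtype _))⟩ (by simp)

/-- the transposition of a point of the table, in the centraliser of the pair -/
noncomputable def qSeven (j : Fin tblSeven.N) : Fi23ThreeA.threeK :=
  ⟨tp (Pts.point validPtsSeven j), by
    have h := allUp_spec seven_both j (Nat.zero_le _) (lt_of_lt_of_le j.2 validSeven.small.1)
    unfold bothOK at h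
    simp only [strict_eq, Nat.blt_eq.mpr j.2, pick_true, Bool.and_eq_true] at h
    refine Fi23ThreeA.mem_threeK.mpr ⟨?_, ?_⟩
    · have h0 : comB (setupA.base : M24.Pt) (Pts.point validPtsSeven j) = true := h.1.1.1
      rw [M24.comB_iff, M24.tp_base] at h0
      exact h0.symm
    · have h1 : comB (⟨1, Fi23ThreeA.N_pts.2.1⟩ : M24.Pt) (Pts.point validPtsSeven j) = true := h.1.1.2
      rw [M24.comB_iff] at h1
      exact h1.symm⟩

/-- the centraliser of the pair with its transpositions -/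
noncomputable def familySeven :
    Fi22Three.GenFamily Fi23ThreeA.threeK (Tbl.piPerm validSeven) (Tbl.selPt validSeven) where
  q := qSeven
  inj i j h := Fin.ext (Pts.pt_inj validPtsSeven i.2 j.2
    (congrArg Fin.val (M24.tp_inj (congrArg Subtype.val h))))
  gen := by
    refine eq_top_iff.2 fun x _ => ?_
    have hle : Fi23ThreeA.threeK ≤ (Subgroup.closure (Set.range qSeven)).map Fi23ThreeA.threeK.subtype := by
      rw [MonoidHom.map_closure]
      conv_lhs => rw [← Fi23ThreeA.threeK_facts.1]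
      refine Subgroup.closure_mono ?_
      rintro _ ⟨g, hg, rfl⟩
      obtain ⟨a, ha, rfl⟩ : ∃ a < tblSeven.m, ptsOfSeven.lt a = g := by
        simp only [List.mem_cons, List.not_mem_nil, or_false] at hg
        rcases hg with rfl | rfl | rfl | rfl | rfl | rfl | rfl | rfl
        exacts [⟨0, by decide, rfl⟩, ⟨1, by decide, rfl⟩, ⟨2, by decide, rfl⟩, ⟨3, by decide, rfl⟩,
          ⟨4, by decide, rfl⟩, ⟨5, by decide, rfl⟩, ⟨6, by decide, rfl⟩, ⟨7, by decide, rfl⟩]
      exact ⟨qSeven (Tbl.selPt validSeven ⟨a, ha⟩), ⟨_, rfl⟩, Pts.point_sel validPtsSeven ⟨a, ha⟩⟩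
    obtain ⟨y, hy, e⟩ := hle x.2
    exact Subtype.ext e ▸ hy
  act a j := Subtype.ext (Pts.point_act validPtsSeven a j)
  reach := Tbl.reach_all validSeven

theorem threeK_proj :
    IsProjReflectionGroupModThree (Fi23ThreeA.threeK ⧸ Subgroup.center Fi23ThreeA.threeK) 7 (-1) 1 := by
  refine ⟨sumSq 7, sumSq_nondeg 7, by rw [sumSq_det]; decide +kernel, ?_⟩
  exact familySeven.quotient_iso (Tbl.reflFamily validSeven)

theorem pairSet23_eq : nbr transClass central ∩ nbr transClass (Fi23Inv.tr 1) =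
    {e | e ∈ transClass ∧ Commute central e ∧ Commute (Fi23Inv.tr 1) e} := by
  ext y
  refine ⟨fun h => ⟨h.1.1, h.1.2.2, h.2.2.2⟩, fun h => ⟨⟨h.1, ?_, h.2.1⟩, h.1, ?_, h.2.2⟩⟩
  · exact fun e => Fi23ThreeA.one_noncomm (e ▸ h.2.2).symm
  · exact fun e => Fi23ThreeA.one_noncomm (e ▸ h.2.1)

theorem gen_zero_nbr : gen 0 ∈ nbr transClass central := by
  obtain ⟨hv, e⟩ := M24.letterPt_spec (show (0 : ℕ) < 10 by norm_num)
  refine ⟨e ▸ M24.tp_mem _, fun h => ?_, (comm_central _ (gen_mem (by norm_num))).symm⟩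
  rw [← e, ← M24.tp_base] at h
  have := congrArg Fin.val (M24.tp_inj h)
  rw [hv] at this
  exact absurd this (by decide)

theorem perp23_noncomm : ∃ x ∈ nbr transClass central, ∃ y ∈ nbr transClass central, ¬ Commute x y := by
  by_contra! hcon
  have hab : ∀ a b : Fi23ThreeA.threeK, a * b = b * a := by
    haveI := Subgroup.isMulCommutative_closure (k := nbr transClass central ∩ nbr transClass (Fi23Inv.tr 1))
      fun a ha b hb => (hcon a ha.1 b hb.1).eq
    intro a b
    apply (MulEquiv.subgroupCongr (Fi23ThreeA.threeK_closure.trans (congrArg _ pairSet23_eq.symm))).injective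
    rw [map_mul, map_mul]
    exact mul_comm' _ _
  obtain ⟨i⟩ := Fi23ThreeA.threeK_facts.2
  have hcard := Fi23ThreeA.threeK_card
  haveI : IsSimpleGroup (Cfsg.POmega (ZMod 3) (Cfsg.quadFormOdd 3 (ZMod 3))) := by
    obtain ⟨Q, hQ, hB⟩ := CfsgLib.Orth.exists_quadForm_odd (F := ZMod 3) (by decide +kernel) 3
    haveI : Fact (Nat.Prime 3) := ⟨Nat.prime_three⟩
    rw [← hQ]
    exact CfsgLib.Orth.pOmega_simple hB (by simp)
  haveI : IsSimpleGroup Fi23ThreeA.threeK := i.isSimpleGroup
  letI : CommGroup Fi23ThreeA.threeK := { (inferInstance : Group Fi23ThreeA.threeK) with mul_comm := hab }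
  have hp : (Nat.card Fi23ThreeA.threeK).Prime := IsSimpleGroup.prime_card
  rw [show Nat.card Fi23ThreeA.threeK = 4585351680 by omega] at hp
  norm_num at hp

theorem perp23_eq : perpGroup transClass central = subA := by
  rw [← centralizer_central]
  haveI : IsSimpleGroup Fi22 := Fi22Pres.isFi22.1
  refine perpGroup_eq_centralizer (K := Fi22) (class_conjClosed transClass_three) ?_ perp23_noncomm
  rw [centralizer_central]
  exact subA_cover

/-- the perp quotient is Fi22 -/
noncomputable def perpIso23 : Fi22 ≃* PerpQuot transClass central :=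
  coverEquiv.trans ((QuotientGroup.quotientMulEquivOfEq center_eq.symm).trans
    (centreQuotEquiv (MulEquiv.subgroupCongr perp23_eq.symm)))

theorem perpIso23_gen : perpIso23 (Fi22Pres.gen 0) =
    proj transClass central ⟨gen 0, Subgroup.subset_closure gen_zero_nbr⟩ := by
  obtain ⟨m, hm⟩ := coverOf_spec .a
  show centreQuotEquiv (MulEquiv.subgroupCongr perp23_eq.symm)
    (QuotientGroup.quotientMulEquivOfEq center_eq.symm (coverMap (PresentedGroup.of Fi22.Gen.a))) = _
  rw [coverMap, PresentedGroup.toGroup.of, hm]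
  rfl

theorem nbr_conj {y : Fi23} (hy : y ∈ nbr transClass central) :
    ∃ g ∈ subA, g * gen 0 * g⁻¹ = y := by
  obtain ⟨p, hp⟩ := M24.exists_tp hy.1
  obtain ⟨p0, hp0⟩ := M24.exists_tp gen_zero_nbr.1
  have near : ∀ q : M24.Pt, tp q ∈ nbr transClass central → subMask0.testBit q = true := fun q hq => by
    refine (M24.near_base q).mpr ⟨fun e => hq.2.1 (by rw [e, M24.tp_base]), ?_⟩
    rw [M24.comB_iff, M24.tp_base]
    exact hq.2.2
  obtain ⟨h1, hh1, e1⟩ := (setupA.orbit_mem_iff subMask0_orbit p).mpr (near p (hp ▸ hy))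
  obtain ⟨h0, hh0, e0⟩ := (setupA.orbit_mem_iff subMask0_orbit p0).mpr (near p0 (hp0 ▸ gen_zero_nbr))
  refine ⟨h1 * h0⁻¹, mul_mem hh1 (inv_mem hh0), ?_⟩
  rw [← hp, ← hp0, M24.tp_smul, map_mul, map_inv, Equiv.Perm.mul_apply, Equiv.Perm.inv_eq_iff_eq.2 e0.symm, e1]

theorem perpIso23_class :
    perpIso23 '' Fi22USix.transClass = perpImage transClass central := by
  have hc := class_conjClosed transClass_three
  ext z
  constructor
  · rintro ⟨x, hx, rfl⟩
    obtain ⟨c, rfl⟩ := isConj_iff.mp (hx : IsConj (Fi22Pres.gen 0) x)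
    obtain ⟨u, hu⟩ := QuotientGroup.mk'_surjective _ (perpIso23 c)
    rw [map_mul, map_mul, map_inv, perpIso23_gen, ← hu]
    refine ⟨u * ⟨gen 0, Subgroup.subset_closure gen_zero_nbr⟩ * u⁻¹, ?_, by simp⟩
    exact conj_mem_nbr hc (commute_of_mem_perpGroup u.2) gen_zero_nbr
  · rintro ⟨x, hx, rfl⟩
    obtain ⟨g, hg, e⟩ := nbr_conj hx
    rw [← perp23_eq] at hg
    refine ⟨perpIso23.symm (proj transClass central ⟨g, hg⟩) * Fi22Pres.gen 0 *
      (perpIso23.symm (proj transClass central ⟨g, hg⟩))⁻¹, ?_, ?_⟩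
    · exact isConj_iff.mpr ⟨_, rfl⟩
    · rw [map_mul, map_mul, map_inv, MulEquiv.apply_symm_apply, perpIso23_gen, ← map_inv, ← map_mul, ← map_mul]
      exact congrArg (proj transClass central) (Subtype.ext e)

/-- Fi23 is of type M(23). -/
theorem fi23_type : IsOfTypeM23 Fi23 transClass := by
  refine ⟨fi23_center, central, mem_conjugatesOf_self, Fi23Inv.tr 1,
    Fi23Inv.tr_mem ⟨1, Fi23ThreeA.N_pts.2.1⟩, Fi23ThreeA.one_noncomm, ?_, 1, one_ne_zero, ?_⟩
  · have h := typeM22_map perpIso23 _ fi22_type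
    rw [perpIso23_class] at h
    exact h
  · exact proj_transport
      (centreQuotEquiv (MulEquiv.subgroupCongr (Fi23ThreeA.threeK_closure.trans (congrArg _ pairSet23_eq.symm))))
      threeK_proj

end CfsgLib.FischerTypes
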