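import Cfsg.Agent.Lib.FischerTypes.Perp
import Cfsg.Agent.Lib.Fi22Three.Pair
import Cfsg.Agent.Lib.Fi22USix.TransClass

/-!
The presented group Fi22 with its transpositions is of type M(22).
-/

set_option autoImplicit false
set_option linter.style.haveILetI false

namespace CfsgLib.FischerTypes

open Cfsg Cfsg.Spor CfsgLib.CosetEnum CfsgLib.ThreeTransp CfsgLib.ThreeTransp.Relations
open CfsgLib.Fi22Three (Mdl mkPt pPt)
open CfsgLib.Fi22USix (transClass)
open CfsgLib.HePres (K4)

/-- Fi22 as a model of itself -/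
noncomputable def mdl22 : Mdl transClass where
  e := MulEquiv.refl Fi22
  he := Set.image_id _

theorem mdl22_A : mdl22.A = Fi22Pres.gen 0 := by
  show M23.tr (mkPt 0) = _
  rw [Fi22Three.mkPt_zero, M23.tr]
  exact Fi22Pres.setupA.conjAt_base _

theorem fi22_noncomm : ∃ x ∈ transClass, ∃ y ∈ transClass, ¬ Commute x y :=
  ⟨_, mdl22.t_mem _, _, mdl22.t_mem _, mdl22.pair_nc⟩

theorem fi22_center : Subgroup.center Fi22 = ⊥ := by
  haveI : IsSimpleGroup Fi22 := Fi22Pres.isFi22.1
  obtain ⟨x, -, y, -, h⟩ := fi22_noncomm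
  exact center_eq_bot_of_simple ⟨x, y, h⟩

theorem fi22_primitive : IsPrimitiveUnderConj transClass := by
  haveI : Finite Fi22 := Fi22Pres.finite_and_card.1
  haveI : IsSimpleGroup Fi22 := Fi22Pres.isFi22.1
  haveI : IsSimpleGroup (⊤ : Subgroup Fi22) := Subgroup.topEquiv.isSimpleGroup
  obtain ⟨x, -, y, -, h⟩ := fi22_noncomm
  refine primitive_of_simple_normal Fi22USix.transClass_three fi22_noncomm fi22_center ⊤
    ⟨⟨x, trivial⟩, ⟨y, trivial⟩, fun e => h (e.map (Subgroup.subtype _))⟩ (by simp)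

theorem pairSet_eq : nbr transClass mdl22.A ∩ nbr transClass mdl22.B =
    {y : Fi22 | y ∈ transClass ∧ Commute mdl22.A y ∧ Commute mdl22.B y ∧ y ≠ mdl22.A ∧ y ≠ mdl22.B} := by
  ext y
  exact ⟨fun h => ⟨h.1.1, h.1.2.2, h.2.2.2, h.1.2.1, h.2.2.1⟩,
    fun h => ⟨⟨h.1, h.2.2.2.1, h.2.1⟩, h.1, h.2.2.2.2, h.2.2.1⟩⟩

theorem perp22_noncomm : ∃ x ∈ nbr transClass mdl22.A, ∃ y ∈ nbr transClass mdl22.A, ¬ Commute x y := by
  by_contra! hcon
  have hc : Subgroup.center mdl22.pairK = ⊤ := by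
    haveI := Subgroup.isMulCommutative_closure (k := nbr transClass mdl22.A ∩ nbr transClass mdl22.B)
      fun a ha b hb => (hcon a ha.1 b hb.1).eq
    refine eq_top_iff.mpr fun z _ => Subgroup.mem_center_iff.mpr fun w => ?_
    have e : mdl22.pairK = Subgroup.closure (nbr transClass mdl22.A ∩ nbr transClass mdl22.B) := by
      rw [mdl22.pairK_eq, pairSet_eq]
    apply (MulEquiv.subgroupCongr e).injective
    rw [map_mul, map_mul]
    exact mul_comm' _ _
  have hbot := mdl22.pairK_center.symm.trans hc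
  have h1 := mdl22.pairK_card
  have h2 : Nat.card mdl22.pairK ≤ 1 := by
    rw [← Subgroup.card_top (G := mdl22.pairK), ← hbot, Subgroup.card_bot]
  omega

theorem perp22_eq : perpGroup transClass (Fi22Pres.gen 0) = Fi22Pres.subA := by
  rw [← Fi22USix.centralizer_central]
  haveI : IsSimpleGroup (Cfsg.PSU 6 K4 2) := Fi22USix.psu_simple
  refine perpGroup_eq_centralizer (K := Cfsg.PSU 6 K4 2) (class_conjClosed Fi22USix.transClass_three) ?_ (mdl22_A ▸ perp22_noncomm)
  rw [Fi22USix.centralizer_central]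
  exact Fi22USix.subA_cover

/-- Fi22 is of type M(22). -/
theorem fi22_type : IsOfTypeM22 Fi22 transClass := by
  obtain ⟨-, ⟨q⟩, -⟩ := Fi22USix.subA_cover
  refine ⟨fi22_center, mdl22.A, mdl22.t_mem _, mdl22.B, mdl22.t_mem _, mdl22.pair_nc,
    ⟨K4, inferInstance, inferInstance, HePres.K4.card_eq, ?_⟩, 1, one_ne_zero, ?_⟩
  · rw [mdl22_A]
    exact ⟨(centreQuotEquiv (MulEquiv.subgroupCongr perp22_eq)).trans q⟩
  · have e : mdl22.pairK = Subgroup.closure (nbr transClass mdl22.A ∩ nbr transClass mdl22.B) := by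
      rw [mdl22.pairK_eq, pairSet_eq]
    refine proj_transport ?_ mdl22.pairK_proj
    exact (QuotientGroup.quotientBot.symm.trans (QuotientGroup.quotientMulEquivOfEq mdl22.pairK_center.symm)).trans
      (centreQuotEquiv (MulEquiv.subgroupCongr e))

end CfsgLib.FischerTypes
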