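import Cfsg.Agent.Lib.FischerTypes.Transport
import Cfsg.Agent.Lib.ThreeTransp.Main
import Cfsg.Agent.Lib.ThreeTransp.Primitive

/-!
The perp group in a non-split double cover is the whole centraliser, and simple groups act primitively.
-/

set_option autoImplicit false
set_option linter.style.haveILetI false

namespace CfsgLib.FischerTypes

open Cfsg CfsgLib.ThreeTransp CfsgLib.ThreeTransp.Relations

variable {G : Type*} [Group G] {D : Set G}

theorem perpGroup_eq_centralizer (hc : IsConjClosed D) {d : G} {K : Type*} [Group K] [IsSimpleGroup K]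
    (hcov : IsNonsplitDoubleCover (Subgroup.centralizer ({d} : Set G)) K)
    (hne : ∃ x ∈ nbr D d, ∃ y ∈ nbr D d, ¬ Commute x y) :
    perpGroup D d = Subgroup.centralizer ({d} : Set G) := by
  set C := Subgroup.centralizer ({d} : Set G)
  obtain ⟨hZ, ⟨q⟩, hsplit⟩ := hcov
  haveI : IsSimpleGroup (C ⧸ Subgroup.center C) := q.isSimpleGroup
  have hle : perpGroup D d ≤ C := fun g hg =>
    Subgroup.mem_centralizer_singleton_iff.mpr (commute_of_mem_perpGroup hg).eq
  have hnorm : ∀ g ∈ C, ∀ n ∈ perpGroup D d, g * n * g⁻¹ ∈ perpGroup D d := by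
    intro g hg n hn
    induction hn using Subgroup.closure_induction with
    | mem x hx =>
      exact Subgroup.subset_closure (conj_mem_nbr hc (Subgroup.mem_centralizer_singleton_iff.mp hg) hx)
    | one => simp
    | mul a b _ _ ha hb => rw [← conj_mul]; exact mul_mem ha hb
    | inv a _ ha => rw [← conj_inv]; exact inv_mem ha
  set N := (perpGroup D d).subgroupOf C
  haveI hN : N.Normal := ⟨fun n hn g => Subgroup.mem_subgroupOf.mpr (hnorm g g.2 n (Subgroup.mem_subgroupOf.mp hn))⟩
  suffices h : N = ⊤ from le_antisymm hle (Subgroup.subgroupOf_eq_top.mp h)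
  obtain ⟨x, hx, y, hy, hxy⟩ := hne
  rcases Subgroup.Normal.eq_bot_or_eq_top (hN.map (QuotientGroup.mk' (Subgroup.center C))
    (QuotientGroup.mk'_surjective _)) with h | h
  · refine absurd ?_ hxy
    have hx' : (⟨x, hle (Subgroup.subset_closure hx)⟩ : C) ∈ N := Subgroup.subset_closure hx
    have := (Subgroup.map_eq_bot_iff N).mp h hx'
    rw [QuotientGroup.ker_mk', Subgroup.mem_center_iff] at this
    exact (congrArg Subtype.val (this ⟨y, hle (Subgroup.subset_closure hy)⟩)).symm
  · have hsup : N ⊔ Subgroup.center C = ⊤ := by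
      have := congrArg (Subgroup.comap (QuotientGroup.mk' (Subgroup.center C))) h
      rwa [Subgroup.comap_map_eq, QuotientGroup.ker_mk', Subgroup.comap_top] at this
    by_contra hne'
    refine hsplit N (Subgroup.isComplement'_of_disjoint_and_mul_eq_univ ?_ ?_)
    · rw [disjoint_iff]
      by_contra hi
      refine hne' (top_le_iff.mp (hsup ▸ sup_le le_rfl ?_))
      haveI : Finite (Subgroup.center C) := Nat.finite_of_card_ne_zero (by omega)
      rcases (Nat.dvd_prime Nat.prime_two).mp (hZ ▸ Subgroup.card_dvd_of_le (inf_le_left :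
        Subgroup.center C ⊓ N ≤ Subgroup.center C)) with e | e
      · exact absurd (Subgroup.card_eq_one.mp e) hi
      · exact (Subgroup.eq_of_le_of_card_ge inf_le_left (by rw [hZ, e])).ge.trans inf_le_right
    · rw [Subgroup.set_mul_normal_comm]
      · rw [← Subgroup.normal_mul, hsup]; rfl

theorem center_eq_bot_of_simple [IsSimpleGroup G] (h : ∃ x y : G, ¬ Commute x y) :
    Subgroup.center G = ⊥ := by
  refine (Subgroup.Normal.eq_bot_or_eq_top (inferInstance : (Subgroup.center G).Normal)).resolve_right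
    fun e => ?_
  obtain ⟨x, y, hxy⟩ := h
  exact hxy (Subgroup.mem_center_iff.mp (e ▸ Subgroup.mem_top y) x)

theorem primitive_of_component [Finite G] (hD : IsThreeTranspositionClass D)
    (hne : ∃ x ∈ D, ∃ y ∈ D, ¬ Commute x y) {L : Subgroup G} [L.Normal] (hL : IsComponent L)
    (hidx : L.index ≤ 2) (hZ : ∀ p : ℕ, p.Prime → Cfsg.pCore p G ≤ Subgroup.center G) :
    IsPrimitiveUnderConj D := by
  obtain ⟨x, hx, y, hy, hxy⟩ := hne
  exact primitive_of_index_le_two hD ⟨x, hx, y, hy, fun e => hxy (e ▸ Commute.refl _)⟩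
    (hZ 2 Nat.prime_two) (hZ 3 Nat.prime_three) hL hidx

theorem primitive_of_simple_normal [Finite G] (hD : IsThreeTranspositionClass D)
    (hne : ∃ x ∈ D, ∃ y ∈ D, ¬ Commute x y) (hZ : Subgroup.center G = ⊥) (L : Subgroup G) [L.Normal]
    [IsSimpleGroup L] (hnc : ∃ a b : L, ¬ Commute a b) (hidx : L.index ≤ 2) :
    IsPrimitiveUnderConj D := by
  have hperf : commutator L = ⊤ := by
    refine (Subgroup.Normal.eq_bot_or_eq_top (inferInstance : (commutator L).Normal)).resolve_left
      fun e => ?_
    obtain ⟨a, b, hab⟩ := hnc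
    have := (Subgroup.commutator_eq_bot_iff_le_centralizer.mp e) (Subgroup.mem_top a)
    exact hab ((Subgroup.mem_centralizer_iff.mp this b (Subgroup.mem_top b)).symm)
  have hq : IsQuasisimple L := by
    refine ⟨⟨hperf⟩, ?_⟩
    exact ((QuotientGroup.quotientMulEquivOfEq (center_eq_bot_of_simple hnc)).trans
      QuotientGroup.quotientBot).isSimpleGroup
  have hL : IsComponent L := ⟨(inferInstance : L.Normal).isSubnormal, hq⟩
  refine primitive_of_component hD hne hL hidx fun p hp => ?_
  haveI := Fact.mk hp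
  haveI := Fitting.pCore_normal (G := G) p
  haveI := (Fitting.pCore_isPGroup (G := G) p).isNilpotent
  have h := Layer.commutator_eq_bot_of_isSolvable hL (inferInstance : Group.IsSolvable (Cfsg.pCore p G))
    (Subgroup.normalizer_eq_top (Cfsg.pCore p G) ▸ le_top)
  -- a core centralising a simple normal subgroup of index two meets it trivially, so is central
  have hinf : Cfsg.pCore p G ⊓ L = ⊥ := by
    rw [Subgroup.commutator_eq_bot_iff_le_centralizer] at h
    refine (Subgroup.eq_bot_iff_forall _).mpr fun z hz => ?_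
    have hc : (⟨z, hz.2⟩ : L) ∈ Subgroup.center L := Subgroup.mem_center_iff.mpr fun w =>
      Subtype.ext ((Subgroup.mem_centralizer_iff.mp (h w.2) z hz.1)).symm
    rw [center_eq_bot_of_simple hnc, Subgroup.mem_bot] at hc
    exact congrArg Subtype.val hc
  rw [hZ, le_bot_iff]
  refine (Subgroup.eq_bot_iff_forall _).mpr fun z hz => ?_
  have hcz : z ∈ Subgroup.center G := by
    refine Subgroup.mem_center_iff.mpr fun g => ?_
    have h1 : ∀ w ∈ Cfsg.pCore p G, w ∈ L → w = 1 := fun w a b => by
      have : w ∈ Cfsg.pCore p G ⊓ L := ⟨a, b⟩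
      rwa [hinf, Subgroup.mem_bot] at this
    have hgz : g * z * g⁻¹ * z⁻¹ = 1 := by
      refine h1 _ (mul_mem ((Fitting.pCore_normal p).conj_mem z hz g) (inv_mem hz)) ?_
      rcases Nat.lt_or_ge L.index 2 with e | e
      · have := L.index_ne_zero_of_finite
        have htop : L = ⊤ := Subgroup.index_eq_one.mp (by omega)
        rw [htop]; trivial
      · have h2 : L.index = 2 := le_antisymm hidx e
        simp only [Subgroup.mul_mem_iff_of_index_two h2, inv_mem_iff]
        tauto
    exact mul_inv_eq_iff_eq_mul.mp (mul_inv_eq_one.mp hgz)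
  rwa [hZ, Subgroup.mem_bot] at hcz

end CfsgLib.FischerTypes
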