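import Cfsg.Agent.Lib.FischerTypes.TableDefs
import Cfsg.Agent.Lib.Fi22Three.GenTable
import Cfsg.Agent.Lib.Fischer.OrthThreeClass

/-!
A reflection group of a sum of squares over three elements, as a generating family with checked tables.
-/

set_option autoImplicit false

namespace CfsgLib.FischerTypes

open Cfsg CfsgLib.CosetEnum CfsgLib.Orth

/-- the sum of squares -/
def sumSq (n : ℕ) : QuadraticForm (ZMod 3) (Fin n → ZMod 3) :=
  QuadraticMap.weightedSumSquares (ZMod 3) (1 : Fin n → ZMod 3)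

theorem sumSq_apply {n : ℕ} (v : Fin n → ZMod 3) : sumSq n v = ∑ i, v i * v i := by
  rw [sumSq, QuadraticMap.weightedSumSquares_apply]
  exact Finset.sum_congr rfl fun i _ => one_smul _ _

theorem sumSq_polar {n : ℕ} (v w : Fin n → ZMod 3) :
    QuadraticMap.polar ⇑(sumSq n) v w = 2 * ∑ i, v i * w i := by
  simp only [QuadraticMap.polar, sumSq_apply, Pi.add_apply, Finset.mul_sum, ← Finset.sum_sub_distrib]
  exact Finset.sum_congr rfl fun i _ => by ring

theorem sumSq_nondeg (n : ℕ) : (QuadraticMap.polarBilin (sumSq n)).Nondegenerate := by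
  have h : ∀ x : Fin n → ZMod 3, (∀ y, QuadraticMap.polar ⇑(sumSq n) x y = 0) → x = 0 := fun x hx => funext fun i => by
    have e := hx (Pi.single i 1)
    rw [sumSq_polar, Finset.sum_eq_single i (fun j _ hj => by rw [Pi.single_eq_of_ne hj, mul_zero])
      (fun hi => absurd (Finset.mem_univ i) hi), Pi.single_eq_same, mul_one, mul_eq_zero] at e
    exact e.resolve_left (by decide +kernel)
  exact ⟨fun x hx => h x hx, fun x hx => h x fun y => by rw [QuadraticMap.polar_comm]; exact hx y⟩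

theorem sumSq_det (n : ℕ) : polarGramDet ⇑(sumSq n) = 2 ^ n := by
  have e : (Matrix.of fun i j : Fin n => QuadraticMap.polar ⇑(sumSq n) (Pi.single i 1) (Pi.single j 1)) =
      Matrix.diagonal fun _ => (2 : ZMod 3) := by
    ext i j
    rw [Matrix.of_apply, sumSq_polar, Finset.sum_eq_single i (fun k _ hk => by rw [Pi.single_eq_of_ne hk, zero_mul])
      (fun hi => absurd (Finset.mem_univ i) hi), Pi.single_eq_same, one_mul, Matrix.diagonal_apply]
    by_cases h : i = j
    · rw [h, Pi.single_eq_same, if_pos rfl, mul_one]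
    · rw [Pi.single_eq_of_ne h, if_neg h, mul_zero]
  rw [polarGramDet, e, Matrix.det_diagonal, Finset.prod_const, Finset.card_univ, Fintype.card_fin]

theorem sum_map_range (n : ℕ) (f : ℕ → ℕ) : ((List.range n).map f).sum = ∑ i : Fin n, f i := by
  induction n with
  | zero => simp
  | succ n ih =>
    rw [List.range_succ, List.map_append, List.sum_append, Fin.sum_univ_castSucc, ih]
    simp

namespace Tbl

/-- the checks -/
structure Valid (T : Tbl) : Prop where
  sel : T.selOK = true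
  pt : allUp T.ptOK 11 0 = true
  move : ∀ a < T.m, allUp (T.moveOK a) 11 0 = true
  cover : allUp T.coverOK 13 0 = true
  small : T.N ≤ 2 ^ 11 ∧ 3 ^ T.n ≤ 2 ^ 13

variable (T : Tbl)

/-- the vector of a reflection -/
noncomputable def vecOf (i : ℕ) : Fin T.n → ZMod 3 := fun k => ((dig (T.V i) k : ℕ) : ZMod 3)

theorem dig_lt (c k : ℕ) : dig c k < 3 := Nat.mod_lt _ (by norm_num)

theorem dig_enc {f : ℕ → ℕ} (hf : ∀ k, f k < 3) (k : Fin T.n) : dig (T.enc f) k = f k := by
  have h := congrArg Fin.val (congrFun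
    (finFunctionFinEquiv.symm_apply_apply fun i : Fin T.n => (⟨f i, hf i⟩ : Fin 3)) k)
  have e : T.enc f = (finFunctionFinEquiv fun i : Fin T.n => (⟨f i, hf i⟩ : Fin 3) : ℕ) := by
    rw [finFunctionFinEquiv_apply, enc, sum_map_range]
  rw [dig, e]
  exact (finFunctionFinEquiv_symm_apply_val _ _).symm.trans h

theorem enc_lt {f : ℕ → ℕ} (hf : ∀ k, f k < 3) : T.enc f < 3 ^ T.n := by
  have e : T.enc f = (finFunctionFinEquiv fun i : Fin T.n => (⟨f i, hf i⟩ : Fin 3) : ℕ) := by
    rw [finFunctionFinEquiv_apply, enc, sum_map_range]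
  rw [e]
  exact Fin.isLt _

theorem enc_congr {f g : ℕ → ℕ} (h : ∀ k : Fin T.n, f k = g k) : T.enc f = T.enc g := by
  rw [enc, enc, sum_map_range, sum_map_range]
  exact Finset.sum_congr rfl fun k _ => by rw [h k]

theorem dot_cast (x y : ℕ) :
    ((T.dot x y : ℕ) : ZMod 3) = ∑ k : Fin T.n, (dig x k : ZMod 3) * (dig y k : ZMod 3) := by
  rw [dot, ZMod.natCast_mod, sum_map_range, Nat.cast_sum]
  simp [Nat.cast_mul]

theorem same_cast {f g : ℕ → ℕ} (h : T.same f g = true) (k : Fin T.n) : (f k : ZMod 3) = g k := by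
  have h' := Nat.eq_of_beq_eq_true (List.all_eq_true.mp h k (List.mem_range.mpr k.2))
  exact (ZMod.natCast_eq_natCast_iff' _ _ 3).mpr h'

theorem opp_cast {f g : ℕ → ℕ} (h : T.opp f g = true) (k : Fin T.n) : (f k : ZMod 3) = -(g k : ZMod 3) := by
  have h' := Nat.eq_of_beq_eq_true (List.all_eq_true.mp h k (List.mem_range.mpr k.2))
  rw [eq_neg_iff_add_eq_zero, ← Nat.cast_add, ← ZMod.natCast_mod, h', Nat.cast_zero]

theorem cast_inj {a b : ℕ} (ha : a < 3) (hb : b < 3) (h : (a : ZMod 3) = b) : a = b := by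
  have := (ZMod.natCast_eq_natCast_iff' _ _ 3).mp h
  rwa [Nat.mod_eq_of_lt ha, Nat.mod_eq_of_lt hb] at this

variable {T} (hT : T.Valid)
include hT

theorem sel_lt {a : ℕ} (ha : a < T.m) : T.S a < T.N := by
  have h := hT.sel
  simp only [selOK, Bool.and_eq_true, List.all_eq_true, List.mem_range, Nat.blt_eq] at h
  exact h.2 a ha

theorem m_pos : 0 < T.m := by
  have h := hT.sel
  simp only [selOK, Bool.and_eq_true, Nat.blt_eq] at h
  exact h.1

theorem pt_spec {j : ℕ} (hj : j < T.N) :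
    T.dot (T.V j) (T.V j) = 1 ∧ T.L (T.enc (dig (T.V j))) = j ∧
      T.L (T.enc fun k => 2 * dig (T.V j) k % 3) = j ∧
      (j = T.S 0 ∨ (T.Par j / 16 < j ∧ T.Par j % 16 < T.m ∧ T.P (T.Par j % 16) (T.Par j / 16) = j)) := by
  have h := allUp_spec hT.pt j (Nat.zero_le _) (by have := hT.small.1; omega)
  unfold ptOK at h
  simp only [strict_eq, Nat.blt_eq.mpr hj, pick_true, Bool.and_eq_true, Bool.or_eq_true, Nat.beq_eq,
    Nat.blt_eq] at h
  exact ⟨h.1.1.1, h.1.1.2, h.1.2, h.2.imp id fun h => ⟨h.1.1, h.1.2, h.2⟩⟩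

theorem move_spec {a j : ℕ} (ha : a < T.m) (hj : j < T.N) :
    T.P a j < T.N ∧ T.P a (T.P a j) = j ∧
      (T.same (fun k => dig (T.V j) k + T.dot (T.V (T.S a)) (T.V j) * dig (T.V (T.S a)) k) (dig (T.V (T.P a j))) = true ∨
        T.opp (fun k => dig (T.V j) k + T.dot (T.V (T.S a)) (T.V j) * dig (T.V (T.S a)) k) (dig (T.V (T.P a j))) = true) := by
  have h := allUp_spec (hT.move a ha) j (Nat.zero_le _) (by have := hT.small.1; omega)
  unfold moveOK at h
  simp only [strict_eq, Nat.blt_eq.mpr hj, pick_true, Bool.and_eq_true, Bool.or_eq_true, Nat.beq_eq,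
    Nat.blt_eq] at h
  exact ⟨h.1.1, h.1.2, h.2⟩

/-- the chosen reflections on all -/
noncomputable def piPerm (a : Fin T.m) : Equiv.Perm (Fin T.N) :=
  Function.Involutive.toPerm (fun j => ⟨T.P a j, (move_spec hT a.2 j.2).1⟩) fun j =>
    Fin.ext (move_spec hT a.2 j.2).2.1

theorem piPerm_val (a : Fin T.m) (j : Fin T.N) : (piPerm hT a j : ℕ) = T.P a j := rfl

/-- the chosen reflections -/
noncomputable def selPt (a : Fin T.m) : Fin T.N := ⟨T.S a, sel_lt hT a.2⟩

theorem reach_all (j : Fin T.N) :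
    ∃ σ ∈ Subgroup.closure (Set.range (piPerm hT)), ∃ a, σ (selPt hT a) = j := by
  suffices h : ∀ n, ∀ hn : n < T.N, ∃ σ ∈ Subgroup.closure (Set.range (piPerm hT)),
      σ (selPt hT ⟨0, m_pos hT⟩) = ⟨n, hn⟩ by
    obtain ⟨σ, hσ, e⟩ := h j j.2
    exact ⟨σ, hσ, _, e⟩
  intro n
  induction n using Nat.strong_induction_on with
  | _ n ih =>
    intro hn
    rcases (pt_spec hT hn).2.2.2 with e | ⟨hlt, ha, e⟩
    · exact ⟨1, one_mem _, Fin.ext e.symm⟩
    · obtain ⟨σ, hσ, e'⟩ := ih _ hlt (hlt.trans hn)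
      refine ⟨piPerm hT ⟨_, ha⟩ * σ, mul_mem (Subgroup.subset_closure ⟨_, rfl⟩) hσ, Fin.ext ?_⟩
      rw [Equiv.Perm.mul_apply, e', piPerm_val]
      exact e

theorem norm_vecOf {j : ℕ} (hj : j < T.N) : sumSq T.n (T.vecOf j) = 1 := by
  simp only [sumSq_apply, vecOf]
  rw [← dot_cast, (pt_spec hT hj).1, Nat.cast_one]

theorem vecOf_inj {i j : ℕ} (hi : i < T.N) (hj : j < T.N) (h : T.vecOf i = T.vecOf j ∨ T.vecOf i = -T.vecOf j) :
    i = j := by
  rcases h with h | h
  · rw [← (pt_spec hT hi).2.1, ← (pt_spec hT hj).2.1]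
    exact congrArg T.L (enc_congr T fun k => cast_inj (dig_lt _ _) (dig_lt _ _) (congrFun h k))
  · rw [← (pt_spec hT hi).2.1, ← (pt_spec hT hj).2.2.1]
    refine congrArg T.L (enc_congr T fun k => cast_inj (dig_lt _ _) (Nat.mod_lt _ (by norm_num)) ?_)
    have e := congrFun h k
    rw [Pi.neg_apply] at e
    rw [show (dig (T.V i) k : ZMod 3) = _ from e, ZMod.natCast_mod, Nat.cast_mul, vecOf]
    linear_combination (-(dig (T.V j) k : ZMod 3)) * CfsgLib.Fischer.three_eq_zero

theorem exists_point {v : Fin T.n → ZMod 3} (hv : sumSq T.n v = 1) :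
    ∃ i : Fin T.N, v = T.vecOf i ∨ v = -T.vecOf i := by
  let f : ℕ → ℕ := fun k => if h : k < T.n then (v ⟨k, h⟩).val else 0
  have hf : ∀ k, f k < 3 := fun k => by
    simp only [f]; split
    · exact ZMod.val_lt _
    · norm_num
  set x := T.enc f with hx
  have hd : ∀ k : Fin T.n, (dig x k : ZMod 3) = v k := fun k => by
    rw [hx, dig_enc T hf, show f k = (v k).val by simp [f], ZMod.natCast_zmod_val]
  have h1 : T.dot x x = 1 := by
    refine cast_inj (Nat.mod_lt _ (by norm_num)) (by norm_num) ?_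
    rw [dot_cast, Nat.cast_one]
    simp only [hd]
    rw [← sumSq_apply, hv]
  have h := allUp_spec hT.cover x (Nat.zero_le _) (by have := enc_lt T hf; have := hT.small.2; omega)
  unfold coverOK at h
  rw [strict_eq, h1, Nat.blt_eq.mpr (show x < 3 ^ T.n from enc_lt T hf)] at h
  simp only [show Nat.beq 1 1 = true from rfl, Bool.and_self, pick_true, strict_eq, Bool.and_eq_true,
    Bool.or_eq_true, Nat.blt_eq] at h
  refine ⟨⟨T.L x, h.1⟩, h.2.imp (fun e => funext fun k => ?_) fun e => funext fun k => ?_⟩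
  · rw [← hd k, same_cast T e k]; rfl
  · rw [← hd k, opp_cast T e k]; rfl

theorem exists_reflection (i : Fin T.N) : ∃ g : Grp (sumSq T.n), IsRefl (T.vecOf i) g :=
  exists_refl (fun x hx => (sumSq_nondeg T.n).1 x hx) (by rw [norm_vecOf hT i.2]; decide +kernel)

/-- the reflection of a point -/
noncomputable def reflOf (i : Fin T.N) : Grp (sumSq T.n) := (exists_reflection hT i).choose

theorem reflOf_spec (i : Fin T.N) : IsRefl (T.vecOf i) (reflOf hT i) := (exists_reflection hT i).choose_spec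

theorem reflOf_mem (i : Fin T.N) : reflOf hT i ∈ reflectionSubgroup (⇑(sumSq T.n)) 1 :=
  Subgroup.subset_closure
    ((CfsgLib.Fischer.norm_one_iff one_ne_zero _).2 ⟨_, norm_vecOf hT i.2, reflOf_spec hT i⟩)

theorem reflOf_inj {i j : Fin T.N} (h : reflOf hT i = reflOf hT j) : i = j := by
  have e1 := refl_self (reflOf_spec hT i)
  rw [h, CfsgLib.Fischer.refl_apply_three (reflOf_spec hT j), norm_vecOf hT j.2, one_mul, sumSq_polar] at e1
  set s := (2 : ZMod 3) * ∑ k, T.vecOf j k * T.vecOf i k with hs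
  have e2 : ∀ k, 2 * T.vecOf i k = s * T.vecOf j k := fun k => by
    have := congrFun e1 k
    simp only [Pi.sub_apply, Pi.smul_apply, Pi.neg_apply, smul_eq_mul] at this
    linear_combination this
  have key : ∀ x y t : ZMod 3, 2 * x = t * y → (t = 0 → x = 0) ∧ (t = 1 → x = -y) ∧ (t = 2 → x = y) := by
    decide +kernel
  refine Fin.ext (vecOf_inj hT i.2 j.2 ?_)
  rcases (by decide +kernel : ∀ t : ZMod 3, t = 0 ∨ t = 1 ∨ t = 2) s with e | e | e
  · exfalso
    have := norm_vecOf hT i.2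
    rw [show T.vecOf i = 0 from funext fun k => (key _ _ _ (e2 k)).1 e, QuadraticMap.map_zero] at this
    exact absurd this (by decide +kernel)
  · exact Or.inr (funext fun k => (key _ _ _ (e2 k)).2.1 e)
  · exact Or.inl (funext fun k => (key _ _ _ (e2 k)).2.2 e)

theorem refl_point {v : Fin T.n → ZMod 3} {g : Grp (sumSq T.n)} (hv : sumSq T.n v = 1) (hg : IsRefl v g) :
    ∃ i, g = reflOf hT i := by
  obtain ⟨i, rfl | rfl⟩ := exists_point hT hv
  · exact ⟨i, refl_unique hg (reflOf_spec hT i)⟩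
  · refine ⟨i, refl_unique hg ?_⟩
    have := refl_smul (reflOf_spec hT i) (c := (-1 : ZMod 3)) (by decide +kernel)
    rwa [neg_one_smul] at this

/-- the reflection group as a group with its reflections -/
noncomputable def reflFamily :
    Fi22Three.GenFamily ↥(reflectionSubgroup (⇑(sumSq T.n)) 1) (piPerm hT) (selPt hT) where
  q i := ⟨reflOf hT i, reflOf_mem hT i⟩
  inj i j h := reflOf_inj hT (congrArg Subtype.val h)
  gen := by
    refine eq_top_iff.2 fun x _ => ?_
    have h : (x : Grp (sumSq T.n)) ∈ (Subgroup.closure (Set.range fun i => (⟨reflOf hT i, reflOf_mem hT i⟩ :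
        ↥(reflectionSubgroup (⇑(sumSq T.n)) 1)))).map (Subgroup.subtype _) := by
      rw [MonoidHom.map_closure]
      refine (Subgroup.closure_le _).2 ?_ x.2
      intro g hg
      obtain ⟨v, hv, hr⟩ := (CfsgLib.Fischer.norm_one_iff one_ne_zero g).1 hg
      obtain ⟨i, rfl⟩ := refl_point hT hv hr
      exact Subgroup.subset_closure ⟨_, ⟨i, rfl⟩, rfl⟩
    obtain ⟨y, hy, e⟩ := h
    exact Subtype.ext e ▸ hy
  act a j := by
    refine Subtype.ext ?_
    show reflOf hT (selPt hT a) * reflOf hT j * (reflOf hT (selPt hT a))⁻¹ = reflOf hT (piPerm hT a j)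
    have e := refl_conj (reflOf_spec hT j) (reflOf hT (selPt hT a))
    rw [CfsgLib.Fischer.refl_apply_three (reflOf_spec hT (selPt hT a)), norm_vecOf hT (selPt hT a).2, one_mul,
      sumSq_polar] at e
    set u := T.vecOf j - ((2 : ZMod 3) * ∑ l, T.vecOf (selPt hT a) l * T.vecOf j l) • T.vecOf (selPt hT a) with hu
    have hu' : ∀ k : Fin T.n, u k =
        ((dig (T.V j) k + T.dot (T.V (T.S a)) (T.V j) * dig (T.V (T.S a)) k : ℕ) : ZMod 3) := fun k => by
      have hd : ∑ l, T.vecOf (selPt hT a) l * T.vecOf j l = ((T.dot (T.V (T.S a)) (T.V j) : ℕ) : ZMod 3) := by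
        rw [dot_cast]; rfl
      rw [hu, Pi.sub_apply, Pi.smul_apply, smul_eq_mul, hd, Nat.cast_add, Nat.cast_mul]
      show (dig (T.V j) k : ZMod 3) - _ * (dig (T.V (T.S a)) k : ZMod 3) = _
      linear_combination (-((T.dot (T.V (T.S a)) (T.V j) : ℕ) : ZMod 3) * (dig (T.V (T.S a)) k : ZMod 3)) *
        CfsgLib.Fischer.three_eq_zero
    rcases (move_spec hT a.2 j.2).2.2 with hm | hm
    · rw [show u = T.vecOf (piPerm hT a j) from funext fun k => (hu' k).trans (same_cast T hm k)] at e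
      exact refl_unique e (reflOf_spec hT _)
    · rw [show u = (-1 : ZMod 3) • T.vecOf (piPerm hT a j) from
        funext fun k => (hu' k).trans ((opp_cast T hm k).trans (by simp [vecOf, piPerm_val]))] at e
      exact refl_unique e (refl_smul (reflOf_spec hT _) (by decide +kernel))
  reach := reach_all hT

end Tbl

end CfsgLib.FischerTypes
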