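import Cfsg.Agent.Lib.CosetEnum.Basic

/-!
Tables for the action of some reflections over three elements on all reflections of norm one.
-/

set_option autoImplicit false

namespace CfsgLib.FischerTypes

open CfsgLib.CosetEnum

/-- The tables: vectors, the numbers of vectors, permutations, parents and the chosen reflections. -/
structure Tbl where
  /-- the dimension -/
  n : ℕ
  /-- the number of reflections -/
  N : ℕ
  /-- the number of chosen reflections -/
  m : ℕ
  /-- vectors in base three -/
  vec : PTab
  /-- numbers of vectors -/
  look : PTab
  /-- permutations -/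
  perm : List PTab
  /-- parents -/
  par : PTab
  /-- the chosen reflections -/
  sel : List ℕ

namespace Tbl

variable (T : Tbl)

/-- the code of a reflection -/
noncomputable def V (i : ℕ) : ℕ := T.vec.at' (nat_lit 13) i

/-- the number of a vector -/
noncomputable def L (x : ℕ) : ℕ := T.look.at' (nat_lit 11) x

/-- the action of a chosen reflection -/
noncomputable def P (a j : ℕ) : ℕ := (T.perm.getD a (.leaf 0)).at' (nat_lit 11) j

/-- a chosen reflection -/
def S (a : ℕ) : ℕ := T.sel.getD a 0

/-- a parent and the reflection to it -/
noncomputable def Par (j : ℕ) : ℕ := T.par.at' (nat_lit 15) j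

/-- a coordinate -/
def dig (c k : ℕ) : ℕ := c / 3 ^ k % 3

/-- a code from coordinates -/
def enc (f : ℕ → ℕ) : ℕ := ((List.range T.n).map fun k => f k * 3 ^ k).sum

/-- the coordinatewise product -/
def dot (x y : ℕ) : ℕ := ((List.range T.n).map fun k => dig x k * dig y k).sum % 3

/-- equal coordinates -/
def same (f g : ℕ → ℕ) : Bool := (List.range T.n).all fun k => Nat.beq (f k % 3) (g k % 3)

/-- opposite coordinates -/
def opp (f g : ℕ → ℕ) : Bool := (List.range T.n).all fun k => Nat.beq ((f k + g k) % 3) 0

/-- the check of a reflection and its parent -/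
noncomputable def ptOK (j : ℕ) : Bool :=
  strict j fun j => pick (Nat.blt j T.N)
    (strict (T.V j) fun c => strict (T.Par j) fun p =>
      Nat.beq (T.dot c c) 1 && Nat.beq (T.L (T.enc (dig c))) j &&
        Nat.beq (T.L (T.enc fun k => 2 * dig c k % 3)) j &&
        (Nat.beq j (T.S 0) || (Nat.blt (p / 16) j && Nat.blt (p % 16) T.m && Nat.beq (T.P (p % 16) (p / 16)) j)))
    true

/-- the check of a chosen reflection on all -/
noncomputable def moveOK (a j : ℕ) : Bool :=
  strict j fun j => pick (Nat.blt j T.N)
    (strict (T.P a j) fun t => strict (T.V (T.S a)) fun s => strict (T.V j) fun c => strict (T.V t) fun d =>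
      strict (T.dot s c) fun e =>
        Nat.blt t T.N && Nat.beq (T.P a t) j &&
          (T.same (fun k => dig c k + e * dig s k) (dig d) || T.opp (fun k => dig c k + e * dig s k) (dig d)))
    true

/-- every vector of norm one is listed up to sign -/
noncomputable def coverOK (x : ℕ) : Bool :=
  strict x fun x => pick (Nat.blt x (3 ^ T.n) && Nat.beq (T.dot x x) 1)
    (strict (T.L x) fun i => Nat.blt i T.N &&
      (strict (T.V i) fun c => T.same (dig x) (dig c) || T.opp (dig x) (dig c)))
    true

/-- the chosen reflections are listed -/
def selOK : Bool := Nat.blt 0 T.m && (List.range T.m).all fun a => Nat.blt (T.S a) T.N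

end Tbl

end CfsgLib.FischerTypes
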